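/-
Affine and quadratic words on sixteen points, as numbers below 2^16.
-/
import Mathlib.Data.Nat.Bitwise
import Mathlib.Data.List.Range
import Mathlib.Data.Fintype.Basic

set_option autoImplicit false
set_option maxRecDepth 10000

namespace CfsgLib.Spor.Golay

/-- Combination of a list of numbers by the digits of `m`. -/
def comb : List ℕ → ℕ → ℕ
  | [], _ => 0
  | g :: l, m => (if m % 2 = 1 then g else 0) ^^^ comb l (m / 2)

/-- The constant word and the four coordinate words. -/
def affGens : List ℕ := [65535, 43690, 52428, 61680, 65280]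

/-- The six products of two coordinate words. -/
def quadGens : List ℕ := [43690 &&& 52428, 43690 &&& 61680, 43690 &&& 65280, 52428 &&& 61680, 52428 &&& 65280, 61680 &&& 65280]

/-- Affine words. -/
def aff (a : ℕ) : ℕ := comb affGens a

/-- Quadratic representatives. -/
def quad (q : ℕ) : ℕ := comb quadGens q

/-- Digit of `m` as a number. -/
def bit (m i : ℕ) : ℕ := if m.testBit i then 1 else 0

/-- Number of digits below sixteen. -/
def cnt (m : ℕ) : ℕ :=
  bit m 0 + bit m 1 + bit m 2 + bit m 3 + bit m 4 + bit m 5 + bit m 6 + bit m 7 + bit m 8 + bit m 9 + bit m 10 +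
    bit m 11 + bit m 12 + bit m 13 + bit m 14 + bit m 15

/-- The quadratic coefficient. -/
def coef (m a b : ℕ) : ℕ := (bit m 0 + bit m (2 ^ a) + bit m (2 ^ b) + bit m (2 ^ a + 2 ^ b)) % 2

/-- Quadratic part. -/
def key (m : ℕ) : ℕ := coef m 0 1 + 2 * coef m 0 2 + 4 * coef m 0 3 + 8 * coef m 1 2 + 16 * coef m 1 3 + 32 * coef m 2 3

/-- Affine part. -/
def lin (m : ℕ) : ℕ :=
  bit m 0 + 2 * ((bit m 0 + bit m 1) % 2) + 4 * ((bit m 0 + bit m 2) % 2) + 8 * ((bit m 0 + bit m 4) % 2) +
    16 * ((bit m 0 + bit m 8) % 2)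

theorem key_lt (m : ℕ) : key m < 64 := by
  unfold key coef; omega

theorem lin_lt (m : ℕ) : lin m < 32 := by
  have : bit m 0 < 2 := by unfold bit; split_ifs <;> omega
  unfold lin; omega

theorem quad_xor : ∀ p q : Fin 64, quad (p.1 ^^^ q.1) = quad p ^^^ quad q := by decide +kernel

theorem aff_xor : ∀ a b : Fin 32, aff (a.1 ^^^ b.1) = aff a ^^^ aff b := by decide +kernel

/-- The labels of the eight inner points. -/
def label (i : Fin 8) : ℕ := [0, 12, 22, 27, 39, 41, 53, 58].getD i.1 0

theorem label_lt : ∀ i, label i < 64 := by decide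

theorem small_coset : ∀ q : Fin 64, q.1 ≠ 0 → ∃ a : Fin 32, cnt (quad q ^^^ aff a) ≠ 0 ∧ cnt (quad q ^^^ aff a) < 8 := by
  decide +kernel

theorem bent : ∀ q : Fin 64, (∀ a : Fin 32, 6 ≤ cnt (quad q ^^^ aff a)) → ∃ i j : Fin 8, i ≠ j ∧ q.1 = label i ^^^ label j := by
  decide +kernel

theorem label_pair_inj : ∀ i j k l : Fin 8, i ≠ j → label i ^^^ label j = label k ^^^ label l →
    (i = k ∧ j = l) ∨ (i = l ∧ j = k) := by decide +kernel

/-- Label `q` is a label of a pair. -/
def isPair (q : ℕ) : Bool := (List.finRange 8).any fun i => (List.finRange 8).any fun j => decide (i ≠ j) && (q == label i ^^^ label j)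

theorem pair_adjacent : ∀ i j k l : Fin 8, i ≠ j → k ≠ l →
    isPair ((label i ^^^ label j) ^^^ (label k ^^^ label l)) = true →
    i = k ∨ i = l ∨ j = k ∨ j = l := by decide +kernel

theorem aff_zero : aff 0 = 0 := by decide

theorem quad_zero : quad 0 = 0 := by decide

theorem aff_coord : aff 1 = 65535 ∧ aff 2 = 43690 ∧ aff 4 = 52428 ∧ aff 8 = 61680 ∧ aff 16 = 65280 := by decide

end CfsgLib.Spor.Golay
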