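/-
Coordinates on a self-orthogonal code: inner eight points and outer sixteen points.
-/
import Cfsg.Agent.Lib.Spor.SelfOrthCode
import Cfsg.Agent.Lib.Spor.GolayBasic
import Cfsg.Agent.Lib.Spor.Golay.Forms
import Mathlib.LinearAlgebra.Dual.Lemmas
import Mathlib.Algebra.BigOperators.Fin
import Mathlib.Algebra.BigOperators.Sym

set_option autoImplicit false

namespace CfsgLib.Spor.Golay

open Cfsg Finset CfsgLib.Spor.Code24

/-- Positions. -/
abbrev Pos := Fin 8 ⊕ Fin 16

variable (e : Pos ≃ Fin 24)

/-- The outer part of a word as a number. -/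
def outer (w : Word) : ℕ := maskFn (fun i => if h : i < 16 then decide (w (e (Sum.inr ⟨i, h⟩)) = 1) else false) 16

/-- The inner part of a word. -/
def inner (w : Word) : Fin 8 → ZMod 2 := fun i => w (e (Sum.inl i))

theorem outer_lt (w : Word) : outer e w < 65536 := maskFn_lt _ 16

theorem testBit_outer (w : Word) (i : Fin 16) : (outer e w).testBit i.1 = decide (w (e (Sum.inr i)) = 1) := by
  simp [outer, testBit_maskFn, i.2]

theorem testBit_outer_ge (w : Word) {i : ℕ} (h : ¬ i < 16) : (outer e w).testBit i = false := by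
  simp [outer, testBit_maskFn, h]

theorem outer_eq {w : Word} {m : ℕ} (hm : m < 65536)
    (h : ∀ i : Fin 16, m.testBit i.1 = decide (w (e (Sum.inr i)) = 1)) : outer e w = m := by
  refine Nat.eq_of_testBit_eq fun i => ?_
  by_cases hi : i < 16
  · rw [testBit_outer e w ⟨i, hi⟩, h ⟨i, hi⟩]
  · rw [testBit_outer_ge e w hi, Nat.testBit_lt_two_pow]
    exact lt_of_lt_of_le hm (Nat.pow_le_pow_right (by norm_num : 1 ≤ 2) (by omega : 16 ≤ i))

theorem outer_add (u v : Word) : outer e (u + v) = outer e u ^^^ outer e v := by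
  refine Nat.eq_of_testBit_eq fun i => ?_
  rw [Nat.testBit_xor]
  by_cases hi : i < 16
  · rw [testBit_outer e _ ⟨i, hi⟩, testBit_outer e _ ⟨i, hi⟩, testBit_outer e _ ⟨i, hi⟩, Pi.add_apply]
    rcases zmod_two (u (e (Sum.inr ⟨i, hi⟩))) with h | h <;> rcases zmod_two (v (e (Sum.inr ⟨i, hi⟩))) with h' | h' <;>
      rw [h, h'] <;> decide
  · simp [testBit_outer_ge e _ hi]

theorem inner_add (u v : Word) : inner e (u + v) = inner e u + inner e v := rfl

theorem word_ext {u v : Word} (h1 : inner e u = inner e v) (h2 : outer e u = outer e v) : u = v := by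
  funext p
  obtain ⟨x, rfl⟩ := e.surjective p
  rcases x with i | i
  · exact congrFun h1 i
  · have := congrArg (fun m => Nat.testBit m i.1) h2
    simp only [testBit_outer, decide_eq_decide] at this
    rcases zmod_two (u (e (Sum.inr i))) with h | h <;> rcases zmod_two (v (e (Sum.inr i))) with h' | h' <;>
      rw [h, h'] at this ⊢ <;> simp_all

theorem bit_outer (w : Word) (i : Fin 16) : (bit (outer e w) i.1 : ZMod 2) = w (e (Sum.inr i)) := by
  rw [bit, testBit_outer]
  rcases zmod_two (w (e (Sum.inr i))) with h | h <;> simp [h]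

theorem cnt_eq_sum (m : ℕ) : cnt m = ∑ i : Fin 16, bit m i.1 := by
  simp [cnt, Fin.sum_univ_succ, add_assoc]

theorem norm_split (w : Word) :
    hammingNorm w = (univ.filter fun i => inner e w i = 1).card + cnt (outer e w) := by
  have h1 : hammingNorm w = (univ.filter fun x : Pos => w (e x) = 1).card := by
    refine (card_bij (fun x _ => e x) (fun x hx => ?_) (fun x _ y _ h => e.injective h) fun p hp => ?_).symm
    · have := (mem_filter.1 hx).2
      simp [this]
    · refine ⟨e.symm p, mem_filter.2 ⟨mem_univ _, ?_⟩, e.apply_symm_apply p⟩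
      rw [e.apply_symm_apply]
      exact (zmod_two _).resolve_left (mem_filter.1 hp).2
  rw [h1, card_filter, Fintype.sum_sum_type, cnt_eq_sum, card_filter]
  congr 1
  refine sum_congr rfl fun i _ => ?_
  rw [bit, testBit_outer]
  simp

/-- The label of an inner part. -/
def lab (f : Fin 8 → ZMod 2) : ℕ :=
  (if f 0 = 1 then label 0 else 0) ^^^ (if f 1 = 1 then label 1 else 0) ^^^ (if f 2 = 1 then label 2 else 0) ^^^
  (if f 3 = 1 then label 3 else 0) ^^^ (if f 4 = 1 then label 4 else 0) ^^^ (if f 5 = 1 then label 5 else 0) ^^^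
  (if f 6 = 1 then label 6 else 0) ^^^ (if f 7 = 1 then label 7 else 0)

theorem lab_add (f g : Fin 8 → ZMod 2) : lab (f + g) = lab f ^^^ lab g := by
  have h : ∀ i, (if (f + g) i = 1 then label i else 0) = (if f i = 1 then label i else 0) ^^^ (if g i = 1 then label i else 0) := by
    intro i
    rw [Pi.add_apply]
    rcases zmod_two (f i) with h | h <;> rcases zmod_two (g i) with h' | h' <;>
      simp [h, h', show (1 : ZMod 2) + 1 = 0 from rfl]
  simp only [lab, h]
  ac_rfl

theorem lab_lt (f : Fin 8 → ZMod 2) : lab f < 64 := by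
  have h : ∀ i, (if f i = 1 then label i else 0) < 2 ^ 6 := fun i => by
    split_ifs
    · exact label_lt i
    · norm_num
  exact Nat.xor_lt_two_pow (Nat.xor_lt_two_pow (Nat.xor_lt_two_pow (Nat.xor_lt_two_pow (Nat.xor_lt_two_pow
    (Nat.xor_lt_two_pow (Nat.xor_lt_two_pow (h 0) (h 1)) (h 2)) (h 3)) (h 4)) (h 5)) (h 6)) (h 7)

/-- The standard code in these coordinates. -/
def InK (w : Word) : Prop :=
  ∑ i, inner e w i = 0 ∧ ∃ a, a < 32 ∧ outer e w = quad (lab (inner e w)) ^^^ aff a

theorem InK.add {u v : Word} (hu : InK e u) (hv : InK e v) : InK e (u + v) := by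
  obtain ⟨hu1, a, ha, hu2⟩ := hu
  obtain ⟨hv1, b, hb, hv2⟩ := hv
  refine ⟨?_, a ^^^ b, Nat.xor_lt_two_pow (n := 5) ha hb, ?_⟩
  · rw [inner_add]
    simp only [Pi.add_apply, sum_add_distrib, hu1, hv1, add_zero]
  · rw [outer_add, inner_add, lab_add, hu2, hv2]
    have h1 := quad_xor ⟨_, lab_lt (inner e u)⟩ ⟨_, lab_lt (inner e v)⟩
    have h2 := aff_xor ⟨a, ha⟩ ⟨b, hb⟩
    simp only at h1 h2
    rw [h1, h2]
    ac_rfl

theorem InK.zero : InK e 0 := by
  refine ⟨by simp [inner], 0, by norm_num, ?_⟩
  rw [outer_eq e (m := 0) (by norm_num) (fun i => by simp)]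
  have h : lab (inner e (0 : Word)) = 0 := by simp [lab, inner]
  rw [h]
  decide

end CfsgLib.Spor.Golay

namespace CfsgLib.Spor.Code24

open Cfsg Finset

variable {C : Submodule (ZMod 2) Word} (hC : Good C)
include hC

/-- The all-one word. -/
theorem Good.one_mem : (1 : Word) ∈ C := by
  classical
  let ψ : Word →ₗ[ZMod 2] Module.Dual (ZMod 2) C :=
    { toFun := fun x =>
        { toFun := fun c => ∑ i, x i * (c : Word) i
          map_add' := fun c d => by simp [mul_add, sum_add_distrib]
          map_smul' := fun a c => by simp [mul_left_comm, mul_sum] }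
      map_add' := fun x y => LinearMap.ext fun c => by simp [add_mul, sum_add_distrib]
      map_smul' := fun a x => LinearMap.ext fun c => by simp [mul_assoc, mul_sum] }
  have hsurj : Function.Surjective ψ := by
    intro f
    obtain ⟨F, hF⟩ := LinearMap.exists_extend f
    refine ⟨fun i => F (Pi.single i 1), LinearMap.ext fun c => ?_⟩
    show ∑ i, F (Pi.single i 1) * (c : Word) i = f c
    rw [← hF, LinearMap.comp_apply]
    conv_rhs => rw [show (C.subtype c : Word) = ∑ i, (c : Word) i • Pi.single i (1 : ZMod 2) from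
      pi_eq_sum_univ' (c : Word)]
    rw [map_sum]
    refine sum_congr rfl fun i _ => ?_
    rw [map_smul, smul_eq_mul, mul_comm]
  have h1 := LinearMap.finrank_range_add_finrank_ker ψ
  rw [LinearMap.range_eq_top.2 hsurj, finrank_top, Subspace.dual_finrank_eq, hC.dim, Module.finrank_fin_fun] at h1
  have hle : C ≤ LinearMap.ker ψ := fun x hx => LinearMap.mem_ker.2 (LinearMap.ext fun c => hC.orth x hx c c.2)
  have heq : C = LinearMap.ker ψ := Submodule.eq_of_le_of_finrank_eq hle (by rw [hC.dim]; omega)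
  rw [heq]
  refine LinearMap.mem_ker.2 (LinearMap.ext fun c => ?_)
  show ∑ i, (1 : Word) i * (c : Word) i = 0
  simp only [Pi.one_apply, one_mul]
  have := hC.orth _ c.2 _ c.2
  refine Eq.trans (sum_congr rfl fun i _ => ?_) this
  rcases zmod_two ((c : Word) i) with h | h <;> simp [h]

end CfsgLib.Spor.Code24
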