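/-
An octad and affine coordinates on its complement.
-/
import Cfsg.Agent.Lib.Spor.Golay.Frame
import Mathlib.GroupTheory.Coset.Card

set_option autoImplicit false

namespace CfsgLib.Spor.Golay

open Cfsg Finset CfsgLib.Spor.Code24

/-- A set of words closed under addition covers each point at most half the time. -/
theorem half_bound (S : Finset Word) (U : Finset (Fin 24)) (hadd : ∀ u ∈ S, ∀ v ∈ S, u + v ∈ S)
    (hU : ∀ u ∈ S, support₂ u ⊆ U) (h8 : ∀ u ∈ S, u ≠ 0 → 8 ≤ hammingNorm u) :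
    16 * (S.card - 1) ≤ U.card * S.card := by
  classical
  have h1 : ∀ u ∈ S, hammingNorm u = ∑ p ∈ U, if u p = 1 then 1 else 0 := by
    intro u hu
    rw [norm_eq, ← card_filter]
    congr 1
    ext p
    constructor
    · intro hp
      exact mem_filter.2 ⟨hU u hu hp, (zmod_two _).resolve_left (mem_filter.1 hp).2⟩
    · intro hp
      exact mem_filter.2 ⟨mem_univ _, by rw [(mem_filter.1 hp).2]; decide⟩
  have h2 : ∀ p, 2 * (S.filter fun u => u p = 1).card ≤ S.card := by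
    intro p
    rcases (S.filter fun u => u p = 1).eq_empty_or_nonempty with he | ⟨c, hc⟩
    · simp [he]
    · obtain ⟨hcS, hcp⟩ := mem_filter.1 hc
      have h : ((S.filter fun u => u p = 1).image fun u => u + c) ⊆ S.filter fun u => ¬ u p = 1 := by
        intro v hv
        obtain ⟨u, hu, rfl⟩ := mem_image.1 hv
        obtain ⟨huS, hup⟩ := mem_filter.1 hu
        refine mem_filter.2 ⟨hadd u huS c hcS, ?_⟩
        rw [Pi.add_apply, hup, hcp]
        decide
      have h' := card_le_card h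
      rw [card_image_of_injective _ (add_left_injective c)] at h'
      have := card_filter_add_card_filter_not (s := S) (fun u => u p = 1)
      omega
  have h3 : 8 * (S.card - 1) ≤ ∑ u ∈ S, hammingNorm u := by
    have h : ∀ u ∈ S.erase 0, 8 ≤ hammingNorm u := fun u hu => h8 u (mem_of_mem_erase hu) (ne_of_mem_erase hu)
    have k1 : (S.erase 0).card * 8 ≤ ∑ u ∈ S.erase 0, hammingNorm u := by
      rw [← smul_eq_mul]
      exact card_nsmul_le_sum (S.erase 0) _ 8 h
    have k2 : ∑ u ∈ S.erase 0, hammingNorm u ≤ ∑ u ∈ S, hammingNorm u :=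
      sum_le_sum_of_subset (erase_subset (0 : Word) S)
    have k3 : S.card - 1 ≤ (S.erase 0).card := pred_card_le_card_erase
    omega
  rw [sum_congr rfl h1, sum_comm] at h3
  simp only [← card_filter] at h3
  calc 16 * (S.card - 1) = 2 * (8 * (S.card - 1)) := by ring
    _ ≤ 2 * ∑ p ∈ U, (S.filter fun u => u p = 1).card := Nat.mul_le_mul_left _ h3
    _ = ∑ p ∈ U, 2 * (S.filter fun u => u p = 1).card := mul_sum _ _ _
    _ ≤ ∑ _p ∈ U, S.card := sum_le_sum fun p _ => h2 p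
    _ = U.card * S.card := by rw [sum_const, smul_eq_mul]

/-- Doubling a closed set inside a larger one. -/
theorem grow {T S : Finset Word} (hT : ∀ u ∈ T, ∀ v ∈ T, u + v ∈ T) (hS : ∀ u ∈ S, ∀ v ∈ S, u + v ∈ S)
    (hST : S ⊆ T) (hlt : S.card < T.card) :
    ∃ f ∈ T, (∀ u ∈ S ∪ S.image (f + ·), ∀ v ∈ S ∪ S.image (f + ·), u + v ∈ S ∪ S.image (f + ·)) ∧
      S ∪ S.image (f + ·) ⊆ T ∧ (S ∪ S.image (f + ·)).card = 2 * S.card := by
  classical
  obtain ⟨f, hfT, hfS⟩ := exists_mem_notMem_of_card_lt_card hlt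
  refine ⟨f, hfT, ?_, union_subset hST ?_, ?_⟩
  · intro u hu v hv
    rcases mem_union.1 hu with hu | hu <;> rcases mem_union.1 hv with hv | hv
    · exact mem_union_left _ (hS u hu v hv)
    · obtain ⟨v', hv', rfl⟩ := mem_image.1 hv
      exact mem_union_right _ (mem_image.2 ⟨u + v', hS u hu v' hv', by abel⟩)
    · obtain ⟨u', hu', rfl⟩ := mem_image.1 hu
      exact mem_union_right _ (mem_image.2 ⟨u' + v, hS u' hu' v hv, by abel⟩)
    · obtain ⟨u', hu', rfl⟩ := mem_image.1 hu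
      obtain ⟨v', hv', rfl⟩ := mem_image.1 hv
      refine mem_union_left _ ?_
      rw [show f + u' + (f + v') = (f + f) + (u' + v') by abel, add_self, zero_add]
      exact hS u' hu' v' hv'
  · intro u hu
    obtain ⟨u', hu', rfl⟩ := mem_image.1 hu
    exact hT f hfT u' (hST hu')
  · rw [card_union_of_disjoint, card_image_of_injective _ (add_right_injective f), two_mul]
    rw [disjoint_left]
    intro u hu hu'
    obtain ⟨v, hv, rfl⟩ := mem_image.1 hu'
    refine hfS ?_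
    have := hS _ hu v hv
    rwa [add_assoc, add_self, add_zero] at this

/-- Every combination of four words. -/
theorem exists_four {T : Finset Word} (hT : ∀ u ∈ T, ∀ v ∈ T, u + v ∈ T) (h0 : (0 : Word) ∈ T) (h16 : T.card = 16) :
    ∃ f : Fin 4 → Word, (∀ k, f k ∈ T) ∧ ∀ t ∈ T, ∃ m : Fin 4 → ZMod 2, t = ∑ k, m k • f k := by
  classical
  obtain ⟨f₀, hf₀, c₁, s₁, n₁⟩ := grow hT (S := {0}) (by simp) (by simpa using h0) (by rw [h16]; simp)
  obtain ⟨f₁, hf₁, c₂, s₂, n₂⟩ := grow hT c₁ s₁ (by rw [n₁, h16]; simp)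
  obtain ⟨f₂, hf₂, c₃, s₃, n₃⟩ := grow hT c₂ s₂ (by rw [n₂, n₁, h16]; simp)
  obtain ⟨f₃, hf₃, -, s₄, n₄⟩ := grow hT c₃ s₃ (by rw [n₃, n₂, n₁, h16]; simp)
  have e := eq_of_subset_of_card_le s₄ (by rw [n₄, n₃, n₂, n₁, h16]; simp)
  refine ⟨![f₀, f₁, f₂, f₃], fun k => by fin_cases k <;> assumption, fun t ht => ?_⟩
  rw [← e] at ht
  have step : ∀ (S : Finset Word) (f u : Word), u ∈ S ∪ S.image (f + ·) → ∃ a : ZMod 2, ∃ v ∈ S, u = a • f + v := by
    intro S f u hu
    rcases mem_union.1 hu with hu | hu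
    · exact ⟨0, u, hu, by simp⟩
    · obtain ⟨v, hv, rfl⟩ := mem_image.1 hu
      exact ⟨1, v, hv, by simp⟩
  obtain ⟨a₃, v₃, hv₃, rfl⟩ := step _ _ _ ht
  obtain ⟨a₂, v₂, hv₂, rfl⟩ := step _ _ _ hv₃
  obtain ⟨a₁, v₁, hv₁, rfl⟩ := step _ _ _ hv₂
  obtain ⟨a₀, v₀, hv₀, rfl⟩ := step _ _ _ hv₁
  rw [mem_singleton] at hv₀
  subst hv₀
  refine ⟨![a₀, a₁, a₂, a₃], ?_⟩
  simp [Fin.sum_univ_succ]
  abel

/-- The point with given coordinates. -/
def code (m : Fin 4 → ZMod 2) : Fin 16 :=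
  ⟨(if m 0 = 1 then 1 else 0) + (if m 1 = 1 then 2 else 0) + (if m 2 = 1 then 4 else 0) + (if m 3 = 1 then 8 else 0),
    by split_ifs <;> omega⟩

theorem code_injective : ∀ m m' : Fin 4 → ZMod 2, code m = code m' → m = m' := by decide +kernel

theorem testBit_code : ∀ (m : Fin 4 → ZMod 2) (k : Fin 4), (aff (2 ^ (k.1 + 1))).testBit (code m).1 = decide (m k = 1) := by
  decide +kernel

variable {C : Submodule (ZMod 2) Word}

/-- Data of affine coordinates. -/
structure Coords (C : Submodule (ZMod 2) Word) (e : Pos ≃ Fin 24) : Prop where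
  aff_mem : ∀ a < 32, ∃ c ∈ C, inner e c = 0 ∧ outer e c = aff a
  inner_even : ∀ c ∈ C, ∑ i, inner e c i = 0
  surj : ∀ f : Fin 8 → ZMod 2, ∑ i, f i = 0 → ∃ c ∈ C, inner e c = f

theorem exists_coords (hC : Good C) : ∃ e, Coords C e := by
  classical
  obtain ⟨F, -, hF⟩ := exists_subset_card_eq (s := (univ : Finset (Fin 24))) (n := 5) (by simp)
  obtain ⟨o, ho, ho8, -⟩ := hC.exists_octad hF
  set O := support₂ o with hO
  have hO8 : O.card = 8 := ho8
  let e0 : Fin 8 ≃ O := (Fintype.equivFinOfCardEq (by rw [Fintype.card_coe, hO8])).symm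
  -- restriction to the octad
  let r : C →+ (Fin 8 → ZMod 2) := AddMonoidHom.mk' (fun c i => (c : Word) (e0 i).1) fun _ _ => rfl
  set C0 : Finset Word := univ.filter fun c => c ∈ C ∧ ∀ p ∈ O, c p = 0 with hC0
  have mem0 : ∀ c, c ∈ C0 ↔ c ∈ C ∧ ∀ p ∈ O, c p = 0 := fun c => by simp [hC0]
  have hrange : ∀ c ∈ C, ∑ i, c (e0 i).1 = 0 := by
    intro c hc
    rw [Equiv.sum_comp e0 (fun p : O => c p.1), sum_coe_sort O c]
    refine Eq.trans ?_ (hC.orth o ho c hc)
    rw [← sum_filter_add_sum_filter_not univ (fun p => p ∈ O) (fun p => o p * c p)]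
    rw [sum_eq_zero (s := univ.filter fun p => ¬ p ∈ O), add_zero, filter_univ_mem]
    · refine sum_congr rfl fun p hp => ?_
      rw [(zmod_two (o p)).resolve_left (mem_filter.1 hp).2, one_mul]
    · intro p hp
      have : o p = 0 := by
        by_contra h
        exact (mem_filter.1 hp).2 (mem_filter.2 ⟨mem_univ _, h⟩)
      rw [this, zero_mul]
  set Ev : Finset (Fin 8 → ZMod 2) := univ.filter fun f => ∑ i, f i = 0 with hEv
  have hEv128 : Ev.card = 128 := by rw [hEv]; decide +kernel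
  have hker : Nat.card r.ker = C0.card := by
    rw [← Nat.card_eq_finsetCard]
    refine Nat.card_congr ⟨fun c => ⟨(c.1 : Word), (mem0 _).2 ⟨c.1.2, fun p hp => ?_⟩⟩,
      fun c => ⟨⟨c.1, ((mem0 _).1 c.2).1⟩, funext fun i => ((mem0 _).1 c.2).2 _ (e0 i).2⟩, fun c => rfl, fun c => rfl⟩
    have := congrFun c.2 (e0.symm ⟨p, hp⟩)
    show (c.1 : Word) p = 0
    simpa [r] using this
  have hmul : C0.card * Nat.card r.range = 4096 := by
    rw [← hker, ← AddSubgroup.index_ker, AddSubgroup.card_mul_index, Module.natCard_eq_pow_finrank (K := ZMod 2),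
      hC.dim, Nat.card_zmod]
    norm_num
  have hsub : (r.range : Set (Fin 8 → ZMod 2)) ⊆ (Ev : Set (Fin 8 → ZMod 2)) := by
    rintro _ ⟨c, rfl⟩
    exact mem_coe.2 (mem_filter.2 ⟨mem_univ _, hrange _ c.2⟩)
  have hR : Nat.card r.range ≤ 128 := by
    refine le_trans ?_ hEv128.le
    rw [← Set.ncard_coe_finset]
    exact le_of_eq_of_le (Nat.card_coe_set_eq _) (Set.ncard_le_ncard hsub (finite_toSet _))
  have h32 : 32 ≤ C0.card := by nlinarith
  have hclosed0 : ∀ u ∈ C0, ∀ v ∈ C0, u + v ∈ C0 := fun u hu v hv => (mem0 _).2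
    ⟨C.add_mem ((mem0 u).1 hu).1 ((mem0 v).1 hv).1, fun p hp => by
      rw [Pi.add_apply, ((mem0 u).1 hu).2 p hp, ((mem0 v).1 hv).2 p hp, add_zero]⟩
  set J : Word := 1 + o with hJ
  have hJO : ∀ p, p ∈ O → J p = 0 := fun p hp => by
    rw [hJ, Pi.add_apply, Pi.one_apply, (zmod_two (o p)).resolve_left (mem_filter.1 hp).2]
    decide
  have hJn : ∀ p, p ∉ O → J p = 1 := fun p hp => by
    have : o p = 0 := by
      by_contra h
      exact hp (mem_filter.2 ⟨mem_univ _, h⟩)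
    rw [hJ, Pi.add_apply, Pi.one_apply, this, add_zero]
  have hJ0 : J ∈ C0 := (mem0 _).2 ⟨C.add_mem hC.one_mem ho, hJO⟩
  obtain ⟨p₀, hp₀⟩ : ∃ p, p ∉ O := by
    by_contra h
    push Not at h
    have := card_le_card (s := (univ : Finset (Fin 24))) (t := O) (fun p _ => h p)
    rw [hO8, card_univ, Fintype.card_fin] at this
    omega
  have hTcard : ∀ p, p ∉ O → (C0.filter fun c => c p = 0).card * 2 = C0.card := by
    intro p hp
    have h := card_filter_add_card_filter_not (s := C0) (fun c => c p = 0)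
    have e : (C0.filter fun c => c p = 0).image (· + J) = C0.filter fun c => ¬ c p = 0 := by
      ext c
      constructor
      · intro hc
        obtain ⟨d, hd, rfl⟩ := mem_image.1 hc
        obtain ⟨hd1, hd2⟩ := mem_filter.1 hd
        refine mem_filter.2 ⟨hclosed0 d hd1 J hJ0, ?_⟩
        rw [Pi.add_apply, hd2, hJn p hp]; decide
      · intro hc
        obtain ⟨hc1, hc2⟩ := mem_filter.1 hc
        refine mem_image.2 ⟨c + J, mem_filter.2 ⟨hclosed0 c hc1 J hJ0, ?_⟩, by rw [add_assoc, add_self, add_zero]⟩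
        rw [Pi.add_apply, (zmod_two (c p)).resolve_left hc2, hJn p hp]; decide
    rw [← e, card_image_of_injective _ (add_left_injective J)] at h
    omega
  have hTclosed : ∀ p, ∀ u ∈ C0.filter (fun c => c p = 0), ∀ v ∈ C0.filter (fun c => c p = 0),
      u + v ∈ C0.filter (fun c => c p = 0) := fun p u hu v hv => mem_filter.2
    ⟨hclosed0 u (mem_filter.1 hu).1 v (mem_filter.1 hv).1, by
      rw [Pi.add_apply, (mem_filter.1 hu).2, (mem_filter.1 hv).2, add_zero]⟩
  have hmin0 : ∀ u ∈ C0, u ≠ 0 → 8 ≤ hammingNorm u := fun u hu h => hC.min u ((mem0 u).1 hu).1 h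
  have hsupp : ∀ u ∈ C0, ∀ p ∈ support₂ u, p ∉ O := fun u hu p hp hpO =>
    (mem_filter.1 hp).2 (((mem0 u).1 hu).2 p hpO)
  -- separation
  have hsep : ∀ p q, p ∉ O → q ∉ O → p ≠ q → ∃ c ∈ C0, c p = 0 ∧ c q = 1 := by
    intro p q hp hq hpq
    by_contra hcon
    push Not at hcon
    have hb := half_bound (C0.filter fun c => c p = 0) (((univ \ O).erase p).erase q) (hTclosed p) (fun u hu => by
        obtain ⟨hu1, hu2⟩ := mem_filter.1 hu
        intro x hx
        refine mem_erase.2 ⟨?_, mem_erase.2 ⟨?_, mem_sdiff.2 ⟨mem_univ _, hsupp u hu1 x hx⟩⟩⟩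
        · rintro rfl
          exact (mem_filter.1 hx).2 ((zmod_two _).resolve_right (hcon u hu1 hu2))
        · rintro rfl
          exact (mem_filter.1 hx).2 hu2)
      (fun u hu => hmin0 u (mem_filter.1 hu).1)
    rw [card_erase_of_mem (mem_erase.2 ⟨hpq.symm, mem_sdiff.2 ⟨mem_univ _, hq⟩⟩),
      card_erase_of_mem (mem_sdiff.2 ⟨mem_univ _, hp⟩), card_sdiff_of_subset (subset_univ _), card_univ,
      Fintype.card_fin, hO8] at hb
    have := hTcard p hp
    omega
  have hT16 : (C0.filter fun c => c p₀ = 0).card = 16 := by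
    have hb := half_bound (C0.filter fun c => c p₀ = 0) ((univ \ O).erase p₀) (hTclosed p₀) (fun u hu => by
        obtain ⟨hu1, hu2⟩ := mem_filter.1 hu
        intro x hx
        refine mem_erase.2 ⟨?_, mem_sdiff.2 ⟨mem_univ _, hsupp u hu1 x hx⟩⟩
        rintro rfl
        exact (mem_filter.1 hx).2 hu2)
      (fun u hu => hmin0 u (mem_filter.1 hu).1)
    rw [card_erase_of_mem (mem_sdiff.2 ⟨mem_univ _, hp₀⟩), card_sdiff_of_subset (subset_univ _), card_univ,
      Fintype.card_fin, hO8] at hb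
    have := hTcard p₀ hp₀
    omega
  obtain ⟨f, hfT, hspan⟩ := exists_four (hTclosed p₀)
    (mem_filter.2 ⟨(mem0 _).2 ⟨C.zero_mem, fun p _ => rfl⟩, rfl⟩) hT16
  -- the coordinate map
  let π : {p : Fin 24 // p ∉ O} → Fin 16 := fun p => code fun k => f k p.1
  have hπinj : Function.Injective π := by
    intro p q h
    by_contra hne
    obtain ⟨c, hc, hcp, hcq⟩ := hsep p.1 q.1 p.2 q.2 (fun e => hne (Subtype.ext e))
    have hk : ∀ k, f k p.1 = f k q.1 := fun k => congrFun (code_injective _ _ h) k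
    obtain ⟨t, ⟨x, hx⟩, ht⟩ : ∃ t : Word, (∃ x : ZMod 2, c = t + x • J) ∧ t ∈ C0.filter (fun u : Word => u p₀ = (0 : ZMod 2)) := by
      rcases zmod_two (c p₀) with h0 | h0
      · exact ⟨c, ⟨0, by simp⟩, mem_filter.2 ⟨hc, h0⟩⟩
      · refine ⟨c + J, ⟨1, by rw [one_smul, add_assoc, add_self, add_zero]⟩, mem_filter.2 ⟨hclosed0 c hc J hJ0, ?_⟩⟩
        rw [Pi.add_apply, h0, hJn p₀ hp₀]; decide
    obtain ⟨m, hm⟩ := hspan t ht
    rw [hx, hm] at hcp hcq
    simp only [Pi.add_apply, Pi.smul_apply, Finset.sum_apply, hk, hJn _ p.2] at hcp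
    simp only [Pi.add_apply, Pi.smul_apply, Finset.sum_apply, hJn _ q.2] at hcq
    rw [hcp] at hcq
    exact absurd hcq (by decide)
  have hπ : Function.Bijective π := by
    refine (Fintype.bijective_iff_injective_and_card π).2 ⟨hπinj, ?_⟩
    rw [Fintype.card_subtype_compl, Fintype.card_fin, Fintype.card_coe, hO8, Fintype.card_fin]
  let π' := Equiv.ofBijective π hπ
  let e : Pos ≃ Fin 24 := (Equiv.sumCongr e0 π'.symm).trans (Equiv.sumCompl fun p => p ∈ O)
  have einl : ∀ i, e (Sum.inl i) = (e0 i).1 := fun i => rfl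
  have einr : ∀ i, e (Sum.inr i) = (π'.symm i).1 := fun i => rfl
  have hJm : inner e J = 0 ∧ outer e J = 65535 := by
    refine ⟨funext fun i => hJO _ (e0 i).2, outer_eq e (by norm_num) fun i => ?_⟩
    rw [einr, hJn _ (π'.symm i).2]
    revert i; decide +kernel
  have hfm : ∀ k : Fin 4, inner e (f k) = 0 ∧ outer e (f k) = aff (2 ^ (k.1 + 1)) := by
    intro k
    refine ⟨funext fun i => ((mem0 _).1 (mem_filter.1 (hfT k)).1).2 _ (e0 i).2, outer_eq e ?_ fun i => ?_⟩
    · revert k; decide +kernel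
    · rw [einr]
      set p := π'.symm i
      have hi : i = π p := (π'.apply_symm_apply i).symm
      rw [hi]
      exact testBit_code (fun j => f j p.1) k
  refine ⟨e, fun a ha => ?_, fun c hc => hrange c hc, fun g hg => ?_⟩
  · let P : ℕ → Prop := fun m => ∃ c ∈ C, inner e c = 0 ∧ outer e c = m
    have hxor : ∀ u v, P u → P v → P (u ^^^ v) := by
      rintro _ _ ⟨c, hc, hc1, rfl⟩ ⟨d, hd, hd1, rfl⟩
      exact ⟨c + d, C.add_mem hc hd, by rw [inner_add, hc1, hd1, add_zero], outer_add e c d⟩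
    have hgen : ∀ x, x = 0 ∨ x = 1 ∨ x = 2 ∨ x = 4 ∨ x = 8 ∨ x = 16 → P (aff x) := by
      rintro x (rfl | rfl | rfl | rfl | rfl | rfl)
      · exact ⟨0, C.zero_mem, rfl, (outer_eq e (by decide) fun i => by simp [aff_zero]).trans rfl⟩
      · exact ⟨J, ((mem0 _).1 hJ0).1, hJm.1, hJm.2.trans aff_coord.1.symm⟩
      · exact ⟨f 0, ((mem0 _).1 (mem_filter.1 (hfT 0)).1).1, (hfm 0).1, (hfm 0).2⟩
      · exact ⟨f 1, ((mem0 _).1 (mem_filter.1 (hfT 1)).1).1, (hfm 1).1, (hfm 1).2⟩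
      · exact ⟨f 2, ((mem0 _).1 (mem_filter.1 (hfT 2)).1).1, (hfm 2).1, (hfm 2).2⟩
      · exact ⟨f 3, ((mem0 _).1 (mem_filter.1 (hfT 3)).1).1, (hfm 3).1, (hfm 3).2⟩
    have hsplit : ∀ a : Fin 32, aff a = aff (a.1 &&& 1) ^^^ aff (a.1 &&& 2) ^^^ aff (a.1 &&& 4) ^^^ aff (a.1 &&& 8) ^^^ aff (a.1 &&& 16) := by
      decide +kernel
    have hcase : ∀ a : Fin 32, (a.1 &&& 1 = 0 ∨ a.1 &&& 1 = 1) ∧ (a.1 &&& 2 = 0 ∨ a.1 &&& 2 = 2) ∧
        (a.1 &&& 4 = 0 ∨ a.1 &&& 4 = 4) ∧ (a.1 &&& 8 = 0 ∨ a.1 &&& 8 = 8) ∧ (a.1 &&& 16 = 0 ∨ a.1 &&& 16 = 16) := by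
      decide +kernel
    obtain ⟨k1, k2, k3, k4, k5⟩ := hcase ⟨a, ha⟩
    show P (aff a)
    rw [hsplit ⟨a, ha⟩]
    exact hxor _ _ (hxor _ _ (hxor _ _ (hxor _ _ (hgen _ (by omega)) (hgen _ (by omega))) (hgen _ (by omega)))
      (hgen _ (by omega))) (hgen _ (by omega))
  · have hC32 : C0.card = 32 := by
      have := hTcard p₀ hp₀
      omega
    have hR128 : Nat.card r.range = 128 := by
      rw [hC32] at hmul; omega
    have heq : (r.range : Set (Fin 8 → ZMod 2)) = (Ev : Set (Fin 8 → ZMod 2)) := by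
      refine Set.eq_of_subset_of_ncard_le hsub ?_ (finite_toSet _)
      rw [Set.ncard_coe_finset, hEv128, ← Nat.card_coe_set_eq]
      exact hR128.ge
    obtain ⟨c, hc⟩ : g ∈ (r.range : Set (Fin 8 → ZMod 2)) := heq ▸ mem_coe.2 (mem_filter.2 ⟨mem_univ _, hg⟩)
    exact ⟨c, c.2, hc⟩

end CfsgLib.Spor.Golay
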