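/-
Words orthogonal to the affine words are quadratic.
-/
import Cfsg.Agent.Lib.Spor.Golay.Forms

set_option autoImplicit false
set_option maxRecDepth 100000

namespace CfsgLib.Spor.Golay

/-- Parity of sixteen digits, by folding. -/
def par16 (m : ℕ) : Bool :=
  let a := m ^^^ (m >>> 8)
  let b := a ^^^ (a >>> 4)
  let c := b ^^^ (b >>> 2)
  (c ^^^ (c >>> 1)).testBit 0

theorem toNat_bne (a b : Bool) : (a ^^ b).toNat = (a.toNat + b.toNat) % 2 := by cases a <;> cases b <;> rfl

theorem bit_eq (m i : ℕ) : bit m i = (m.testBit i).toNat := by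
  unfold bit; cases m.testBit i <;> rfl

theorem par16_eq (m : ℕ) : (par16 m).toNat = cnt m % 2 := by
  simp only [par16, cnt, bit_eq, Nat.testBit_xor, Nat.testBit_shiftRight, toNat_bne]
  simp only [Nat.reduceAdd, Nat.zero_add, Nat.add_zero]
  omega

/-- Orthogonality in folded form. -/
def orthFast (m : ℕ) : Bool :=
  !par16 m && !par16 (m &&& 43690) && !par16 (m &&& 52428) && !par16 (m &&& 61680) && !par16 (m &&& 65280)

/-- The quadratic words exhaust the orthogonal space of the affine ones. -/
theorem decomp_all : ((List.range 65536).all fun m => !orthFast m || (m == quad (key m) ^^^ aff (lin m))) = true := by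
  decide +kernel

theorem decomp {m : ℕ} (hm : m < 65536) (h : ∀ g ∈ affGens, cnt (m &&& g) % 2 = 0) :
    m = quad (key m) ^^^ aff (lin m) := by
  have hp : ∀ x, cnt x % 2 = 0 → par16 x = false := fun x hx => by
    have := par16_eq x
    cases hb : par16 x with
    | false => rfl
    | true => rw [hb, hx] at this; exact absurd this (by decide)
  have hfull : m &&& 65535 = m := by
    rw [show (65535 : ℕ) = 2 ^ 16 - 1 from rfl, Nat.and_two_pow_sub_one_eq_mod]
    exact Nat.mod_eq_of_lt hm
  have h1 := h 65535 (by decide)
  rw [hfull] at h1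
  have ho : orthFast m = true := by
    simp [orthFast, hp _ h1, hp _ (h 43690 (by decide)), hp _ (h 52428 (by decide)), hp _ (h 61680 (by decide)),
      hp _ (h 65280 (by decide))]
  have := List.all_eq_true.1 decomp_all m (List.mem_range.2 hm)
  simpa [ho] using this

end CfsgLib.Spor.Golay
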