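/-
Any two self-orthogonal [24,12,8] codes differ by a permutation of the coordinates.
-/
import Cfsg.Agent.Lib.Spor.Golay.Coords
import Cfsg.Agent.Lib.Spor.Golay.Decomp

set_option autoImplicit false

namespace CfsgLib.Spor.Golay

open Cfsg Finset CfsgLib.Spor.Code24

theorem cnt_and (e : Pos ≃ Fin 24) (u v : Word) :
    (cnt (outer e u &&& outer e v) : ZMod 2) = ∑ i, u (e (Sum.inr i)) * v (e (Sum.inr i)) := by
  rw [cnt_eq_sum, Nat.cast_sum]
  refine sum_congr rfl fun i _ => ?_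
  rw [← bit_outer e u i, ← bit_outer e v i, bit, bit, bit, Nat.testBit_and]
  cases (outer e u).testBit i.1 <;> cases (outer e v).testBit i.1 <;> simp

theorem aff_gen_orth {C : Submodule (ZMod 2) Word} (hC : Good C) {e : Pos ≃ Fin 24} (hK : Coords C e) {c : Word}
    (hc : c ∈ C) : ∀ g ∈ affGens, cnt (outer e c &&& g) % 2 = 0 := by
  intro g hg
  obtain ⟨a, ha, rfl⟩ : ∃ a, a < 32 ∧ aff a = g := by
    simp only [affGens, List.mem_cons, List.not_mem_nil, or_false] at hg
    obtain ⟨h1, h2, h3, h4, h5⟩ := aff_coord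
    rcases hg with rfl | rfl | rfl | rfl | rfl
    exacts [⟨1, by norm_num, h1⟩, ⟨2, by norm_num, h2⟩, ⟨4, by norm_num, h3⟩, ⟨8, by norm_num, h4⟩,
      ⟨16, by norm_num, h5⟩]
  obtain ⟨d, hd, hd0, hda⟩ := hK.aff_mem a ha
  rw [← hda]
  have h := hC.orth c hc d hd
  rw [← Equiv.sum_comp e, Fintype.sum_sum_type] at h
  have h0 : ∑ i : Fin 8, c (e (Sum.inl i)) * d (e (Sum.inl i)) = 0 := sum_eq_zero fun i _ => by
    rw [show d (e (Sum.inl i)) = 0 from congrFun hd0 i, mul_zero]
  rw [h0, zero_add, ← cnt_and] at h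
  exact Nat.even_iff.1 (ZMod.natCast_eq_zero_iff_even.1 h)

/-- Inner weight two. -/
theorem card_filter_two (f : Fin 8 → ZMod 2) (i j : Fin 8) (hij : i ≠ j) (h : ∀ x, f x = 1 ↔ x = i ∨ x = j) :
    (univ.filter fun x => f x = 1).card = 2 := by
  rw [show (univ.filter fun x => f x = 1) = {i, j} by ext x; simp [h], card_pair hij]

/-- Pairwise meeting pairs of points: seven of them form a star. -/
theorem star {ι : Type*} [Fintype ι] (hι : 4 ≤ Fintype.card ι) (p q : ι → Fin 8) (hne : ∀ x, p x ≠ q x)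
    (hinj : ∀ x y, (p x = p y ∧ q x = q y) ∨ (p x = q y ∧ q x = p y) → x = y)
    (hmeet : ∀ x y, x ≠ y → p x = p y ∨ p x = q y ∨ q x = p y ∨ q x = q y) :
    ∃ k, ∀ x, p x = k ∨ q x = k := by
  classical
  obtain ⟨x₀⟩ : Nonempty ι := Fintype.card_pos_iff.1 (by omega)
  by_contra hcon
  push Not at hcon
  obtain ⟨y, hy1, hy2⟩ := hcon (p x₀)
  obtain ⟨w, hw1, hw2⟩ := hcon (q x₀)
  have hy : p y = q x₀ ∨ q y = q x₀ := by
    have hne0 : y ≠ x₀ := fun e => hy1 (by rw [e])
    rcases hmeet y x₀ hne0 with h | h | h | h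
    exacts [absurd h hy1, Or.inl h, absurd h hy2, Or.inr h]
  have hw : p w = p x₀ ∨ q w = p x₀ := by
    have hne0 : w ≠ x₀ := fun e => hw2 (by rw [e])
    rcases hmeet w x₀ hne0 with h | h | h | h
    exacts [Or.inl h, absurd h hw1, Or.inr h, absurd h hw2]
  have hwy : w ≠ y := by
    rintro rfl
    rcases hy with h | h
    exacts [hw1 h, hw2 h]
  have hall : ∀ z, z = x₀ ∨ z = y ∨ z = w := by
    intro z
    by_contra h
    push Not at h
    obtain ⟨h1, h2, h3⟩ := h
    have a1 := hmeet z x₀ h1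
    have a2 := hmeet z y h2
    have a3 := hmeet z w h3
    have b1 := fun h => h1 (hinj z x₀ h)
    have b2 := fun h => h2 (hinj z y h)
    have b3 := fun h => h3 (hinj z w h)
    have c0 := hne x₀
    obtain ⟨c, hc⟩ : ∃ c, (p y = q x₀ ∧ q y = c) ∨ (q y = q x₀ ∧ p y = c) := by
      rcases hy with h | h
      exacts [⟨_, Or.inl ⟨h, rfl⟩⟩, ⟨_, Or.inr ⟨h, rfl⟩⟩]
    obtain ⟨d, hd⟩ : ∃ d, (p w = p x₀ ∧ q w = d) ∨ (q w = p x₀ ∧ p w = d) := by
      rcases hw with h | h
      exacts [⟨_, Or.inl ⟨h, rfl⟩⟩, ⟨_, Or.inr ⟨h, rfl⟩⟩]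
    have hca : c ≠ p x₀ := by rcases hc with ⟨-, rfl⟩ | ⟨-, rfl⟩ <;> assumption
    have hdb : d ≠ q x₀ := by rcases hd with ⟨-, rfl⟩ | ⟨-, rfl⟩ <;> assumption
    have hcd : c = d := by
      have a4 := hmeet w y hwy
      rcases hc with ⟨e1, e2⟩ | ⟨e1, e2⟩ <;> rcases hd with ⟨e3, e4⟩ | ⟨e3, e4⟩ <;> rw [e1, e2, e3, e4] at a4 <;>
        rcases a4 with h | h | h | h <;>
        first | exact h.symm | exact absurd h c0 | exact absurd h.symm hca | exact absurd h hdb
    subst hcd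
    obtain ⟨m, hm⟩ : ∃ m, ((p z = p x₀ ∨ p z = q x₀) ∧ q z = m) ∨ ((q z = p x₀ ∨ q z = q x₀) ∧ p z = m) := by
      rcases a1 with h | h | h | h
      exacts [⟨_, Or.inl ⟨Or.inl h, rfl⟩⟩, ⟨_, Or.inl ⟨Or.inr h, rfl⟩⟩, ⟨_, Or.inr ⟨Or.inl h, rfl⟩⟩, ⟨_, Or.inr ⟨Or.inr h, rfl⟩⟩]
    rcases hm with ⟨hm1, hm2⟩ | ⟨hm1, hm2⟩ <;> rcases hc with ⟨e1, e2⟩ | ⟨e1, e2⟩ <;>
      rcases hd with ⟨e3, e4⟩ | ⟨e3, e4⟩ <;> rcases hm1 with hm1 | hm1 <;>
      rw [hm1, hm2, e1, e2] at a2 <;> rw [hm1, hm2, e3, e4] at a3 <;>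
      rw [hm1, hm2] at b1 <;> rw [hm1, hm2, e1, e2] at b2 <;> rw [hm1, hm2, e3, e4] at b3 <;> grind
  have hle : Fintype.card ι ≤ 3 := by
    rw [← card_univ]
    refine le_trans (card_le_card (t := {x₀, y, w}) fun z _ => ?_) card_le_three
    rcases hall z with h | h | h <;> simp [h]
  omega

theorem exists_frame {C : Submodule (ZMod 2) Word} (hC : Good C) :
    ∃ e : Pos ≃ Fin 24, ∀ w : Word, w ∈ C ↔ InK e w := by
  classical
  obtain ⟨e, hK⟩ := exists_coords hC
  have hdec : ∀ c ∈ C, ∃ q a, q < 64 ∧ a < 32 ∧ outer e c = quad q ^^^ aff a := fun c hc =>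
    ⟨_, _, key_lt _, lin_lt _, decomp (outer_lt e c) (aff_gen_orth hC hK hc)⟩
  -- coset weights
  have hw : ∀ c ∈ C, ∀ q a, q < 64 → a < 32 → outer e c = quad q ^^^ aff a → c ≠ 0 →
      ∀ a' : Fin 32, inner e c = 0 → cnt (quad q ^^^ aff a'.1) = 0 ∨ 8 ≤ cnt (quad q ^^^ aff a'.1) := by
    intro c hc q a hq ha hout _ a' hin
    obtain ⟨d, hd, hd0, hda⟩ := hK.aff_mem (a ^^^ a'.1) (Nat.xor_lt_two_pow (n := 5) ha a'.2)
    have h := norm_split e (c + d)
    have hx : outer e (c + d) = quad q ^^^ aff a'.1 := by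
      have h2 := aff_xor ⟨a, ha⟩ a'
      simp only at h2
      rw [outer_add, hout, hda, h2, Nat.xor_assoc, ← Nat.xor_assoc (aff a), Nat.xor_self, Nat.zero_xor]
    rw [hx, inner_add, hin, hd0] at h
    simp only [add_zero, Pi.zero_apply, zero_ne_one, filter_false, card_empty, zero_add] at h
    rw [← h]
    by_cases h0 : c + d = 0
    · left; rw [h0, hammingNorm_zero]
    · right; exact hC.min _ (C.add_mem hc hd) h0
  have hzero : ∀ c ∈ C, inner e c = 0 → ∃ a, a < 32 ∧ outer e c = aff a := by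
    intro c hc hin
    obtain ⟨q, a, hq, ha, hout⟩ := hdec c hc
    by_cases h0 : c = 0
    · refine ⟨0, by norm_num, ?_⟩
      rw [h0, aff_zero]
      exact outer_eq e (by norm_num) fun i => by simp
    by_cases hq0 : q = 0
    · exact ⟨a, ha, by rw [hout, hq0, quad_zero, Nat.zero_xor]⟩
    obtain ⟨a', h1, h2⟩ := small_coset ⟨q, hq⟩ hq0
    rcases hw c hc q a hq ha hout h0 a' hin with h | h
    · exact absurd h h1
    · exact absurd h (not_le.2 h2)
  have hpair : ∀ c ∈ C, (univ.filter fun x => inner e c x = 1).card = 2 → ∀ q a, q < 64 → a < 32 →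
      outer e c = quad q ^^^ aff a → ∃ i j : Fin 8, i ≠ j ∧ q = label i ^^^ label j := by
    intro c hc h2 q a hq ha hout
    refine bent ⟨q, hq⟩ fun a' => ?_
    obtain ⟨d, hd, hd0, hda⟩ := hK.aff_mem (a ^^^ a'.1) (Nat.xor_lt_two_pow (n := 5) ha a'.2)
    have h := norm_split e (c + d)
    have hx : outer e (c + d) = quad q ^^^ aff a'.1 := by
      have h3 := aff_xor ⟨a, ha⟩ a'
      simp only at h3
      rw [outer_add, hout, hda, h3, Nat.xor_assoc, ← Nat.xor_assoc (aff a), Nat.xor_self, Nat.zero_xor]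
    rw [hx, inner_add, hd0, add_zero, h2] at h
    have hne : c + d ≠ 0 := fun e0 => by
      rw [e0, hammingNorm_zero] at h; omega
    have := hC.min _ (C.add_mem hc hd) hne
    show 6 ≤ cnt (quad q ^^^ aff a'.1)
    omega
  -- the seven basic words
  have hbase : ∀ j : Fin 7, ∃ c ∈ C, (∀ x, inner e c x = 1 ↔ x = 0 ∨ x = j.succ) ∧
      ∃ p q : Fin 8, p ≠ q ∧ ∃ a, a < 32 ∧ outer e c = quad (label p ^^^ label q) ^^^ aff a := by
    intro j
    obtain ⟨c, hc, hcf⟩ := hK.surj (fun x => if x = 0 ∨ x = j.succ then 1 else 0) (by revert j; decide +kernel)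
    have h1 : ∀ x, inner e c x = 1 ↔ x = 0 ∨ x = j.succ := fun x => by rw [hcf]; dsimp only; split_ifs <;> simp_all
    obtain ⟨q, a, hq, ha, hout⟩ := hdec c hc
    obtain ⟨i, k, hik, rfl⟩ := hpair c hc (card_filter_two _ _ _ (Fin.succ_ne_zero j).symm h1) q a hq ha hout
    exact ⟨c, hc, h1, i, k, hik, a, ha, hout⟩
  choose c hc hci p q hpq a ha hout using hbase
  have hl : ∀ i k : Fin 8, label i ^^^ label k < 64 := fun i k => Nat.xor_lt_two_pow (n := 6) (label_lt i) (label_lt k)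
  have hsum : ∀ x y, x ≠ y → ∃ i k : Fin 8, i ≠ k ∧ (label (p x) ^^^ label (q x)) ^^^ (label (p y) ^^^ label (q y)) = label i ^^^ label k := by
    intro x y hxy
    refine hpair (c x + c y) (C.add_mem (hc x) (hc y)) ?_ _ (a x ^^^ a y)
      (Nat.xor_lt_two_pow (n := 6) (hl _ _) (hl _ _)) (Nat.xor_lt_two_pow (n := 5) (ha x) (ha y)) ?_
    · refine card_filter_two _ x.succ y.succ (fun h => hxy (Fin.succ_injective _ h)) fun z => ?_
      rw [inner_add, Pi.add_apply]
      have hx := hci x z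
      have hy := hci y z
      have hs : x.succ ≠ y.succ := fun h => hxy (Fin.succ_injective _ h)
      have x0 := Fin.succ_ne_zero x
      have y0 := Fin.succ_ne_zero y
      rcases zmod_two (inner e (c x) z) with u | u <;> rcases zmod_two (inner e (c y) z) with v | v <;>
        rw [u] at hx ⊢ <;> rw [v] at hy ⊢ <;> simp at hx hy ⊢ <;> grind
    · rw [outer_add, hout, hout]
      have h1 := quad_xor ⟨_, hl (p x) (q x)⟩ ⟨_, hl (p y) (q y)⟩
      have h2 := aff_xor ⟨_, ha x⟩ ⟨_, ha y⟩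
      simp only at h1 h2
      rw [h1, h2]
      ac_rfl
  have hinj : ∀ x y, (p x = p y ∧ q x = q y) ∨ (p x = q y ∧ q x = p y) → x = y := by
    intro x y h
    by_contra hxy
    obtain ⟨i, k, hik, he⟩ := hsum x y hxy
    have h0 : (label (p x) ^^^ label (q x)) ^^^ (label (p y) ^^^ label (q y)) = 0 := by
      rcases h with ⟨h1, h2⟩ | ⟨h1, h2⟩
      · rw [h1, h2, Nat.xor_self]
      · rw [h1, h2, Nat.xor_comm (label (q y)), Nat.xor_self]
    rw [h0] at he
    exact (by decide : ∀ i k : Fin 8, i ≠ k → 0 ≠ label i ^^^ label k) i k hik he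
  obtain ⟨k, hk⟩ := star (by simp) p q hpq hinj fun x y hxy => by
    obtain ⟨i, m, him, he⟩ := hsum x y hxy
    refine pair_adjacent _ _ _ _ (hpq x) (hpq y) ?_
    simp only [isPair, List.any_eq_true, Bool.and_eq_true, decide_eq_true_eq, beq_iff_eq]
    exact ⟨i, List.mem_finRange _, m, List.mem_finRange _, him, he⟩
  -- relabelling
  let s : Fin 8 → Fin 8 := Fin.cons k fun j => if p j = k then q j else p j
  have hsj : ∀ j : Fin 7, s j.succ ≠ k ∧ label (p j) ^^^ label (q j) = label k ^^^ label (s j.succ) ∧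
      ((p j = k ∧ q j = s j.succ) ∨ (q j = k ∧ p j = s j.succ)) := by
    intro j
    simp only [s, Fin.cons_succ]
    by_cases h : p j = k
    · rw [if_pos h]
      exact ⟨fun e => hpq j (h.trans e.symm), by rw [h], Or.inl ⟨h, rfl⟩⟩
    · rw [if_neg h]
      have h' := (hk j).resolve_left h
      exact ⟨h, by rw [h', Nat.xor_comm], Or.inr ⟨h', rfl⟩⟩
  have hs : Function.Injective s := by
    intro u v h
    rcases Fin.eq_zero_or_eq_succ u with rfl | ⟨x, rfl⟩ <;> rcases Fin.eq_zero_or_eq_succ v with rfl | ⟨y, rfl⟩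
    · rfl
    · exact absurd h.symm (hsj y).1
    · exact absurd h (hsj x).1
    · refine congrArg _ (hinj x y ?_)
      rcases (hsj x).2.2 with ⟨h1, h2⟩ | ⟨h1, h2⟩ <;> rcases (hsj y).2.2 with ⟨h3, h4⟩ | ⟨h3, h4⟩
      · exact Or.inl ⟨h1.trans h3.symm, h2.trans (h.trans h4.symm)⟩
      · exact Or.inr ⟨h1.trans h3.symm, h2.trans (h.trans h4.symm)⟩
      · exact Or.inr ⟨h2.trans (h.trans h4.symm), h1.trans h3.symm⟩
      · exact Or.inl ⟨h2.trans (h.trans h4.symm), h1.trans h3.symm⟩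
  let σ : Fin 8 ≃ Fin 8 := Equiv.ofBijective s (Finite.injective_iff_bijective.1 hs)
  let e' : Pos ≃ Fin 24 := (Equiv.sumCongr σ.symm (Equiv.refl _)).trans e
  have hout' : ∀ w, outer e' w = outer e w := fun w => rfl
  have hin' : ∀ w i, inner e' w (s i) = inner e w i := fun w i => by
    show w (e (Sum.inl (σ.symm (σ i)))) = _
    rw [σ.symm_apply_apply]
    rfl
  have hsum' : ∀ w, ∑ i, inner e' w i = ∑ i, inner e w i := fun w => by
    rw [← Equiv.sum_comp σ]
    exact sum_congr rfl fun i _ => hin' w i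
  have hK0 : ∀ w, inner e w = 0 → (∃ a, a < 32 ∧ outer e w = aff a) → InK e' w := by
    rintro w h ⟨b, hb, hwb⟩
    refine ⟨by rw [hsum', h]; simp, b, hb, ?_⟩
    have h' : inner e' w = 0 := funext fun i => by
      obtain ⟨x, rfl⟩ := σ.surjective i
      exact (hin' w x).trans (congrFun h x)
    rw [hout', hwb, h', show lab 0 = 0 by simp [lab], quad_zero, Nat.zero_xor]
  have hKj : ∀ j, InK e' (c j) := by
    intro j
    refine ⟨by rw [hsum']; exact hK.inner_even _ (hc j), a j, ha j, ?_⟩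
    rw [hout', hout, (hsj j).2.1]
    congr 2
    have hfun : inner e' (c j) = fun x => if x = k ∨ x = s j.succ then 1 else 0 := funext fun i => by
      obtain ⟨x, rfl⟩ := σ.surjective i
      show inner e' (c j) (s x) = if s x = k ∨ s x = s j.succ then 1 else 0
      rw [hin', show k = s 0 from rfl]
      simp only [hs.eq_iff]
      rcases zmod_two (inner e (c j) x) with u | u
      · rw [u, if_neg fun h => zero_ne_one (u.symm.trans ((hci j x).2 h))]
      · rw [u, if_pos ((hci j x).1 u)]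
    rw [hfun]
    exact (by decide +kernel : ∀ k m : Fin 8, m ≠ k →
      label k ^^^ label m = lab (fun x => if x = k ∨ x = m then 1 else 0)) k (s j.succ) (hsj j).1
  -- combinations of the basic words
  have hspan : ∀ f : Fin 8 → ZMod 2, ∑ i, f i = 0 → ∃ d ∈ C, inner e d = f ∧ InK e' d := by
    intro f hf
    have hdC : ∀ t : Finset (Fin 7), ∑ j ∈ t, f j.succ • c j ∈ C ∧ InK e' (∑ j ∈ t, f j.succ • c j) := by
      intro t
      induction t using Finset.induction_on with
      | empty => simpa using InK.zero e'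
      | insert j t hj ih =>
        rw [sum_insert hj]
        refine ⟨C.add_mem (C.smul_mem _ (hc j)) ih.1, ?_⟩
        rcases zmod_two (f j.succ) with u | u <;> rw [u]
        · simpa using ih.2
        · rw [one_smul]; exact InK.add e' (hKj j) ih.2
    refine ⟨_, (hdC univ).1, ?_, (hdC univ).2⟩
    funext x
    have hval : ∀ j, inner e (c j) x = if x = 0 ∨ x = j.succ then 1 else 0 := fun j => by
      rcases zmod_two (inner e (c j) x) with u | u
      · rw [u, if_neg fun h => zero_ne_one (u.symm.trans ((hci j x).2 h))]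
      · rw [u, if_pos ((hci j x).1 u)]
    show (∑ j : Fin 7, f j.succ • c j) (e (Sum.inl x)) = f x
    rw [Finset.sum_apply]
    calc ∑ j : Fin 7, (f j.succ • c j) (e (Sum.inl x)) = ∑ j : Fin 7, f j.succ * (if x = 0 ∨ x = j.succ then 1 else 0) :=
          sum_congr rfl fun j _ => by rw [← hval j]; rfl
      _ = f x := by
        rcases Fin.eq_zero_or_eq_succ x with rfl | ⟨y, rfl⟩
        · rw [Fin.sum_univ_succ] at hf
          simp only [true_or, if_true, mul_one]
          calc ∑ j : Fin 7, f j.succ = f 0 + (f 0 + ∑ j : Fin 7, f j.succ) := by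
                rw [← add_assoc, show f 0 + f 0 = 0 from CharTwo.add_self_eq_zero _, zero_add]
            _ = f 0 := by rw [hf, add_zero]
        · simp [Fin.succ_ne_zero, Fin.succ_inj]
  refine ⟨e', fun w => ⟨fun hwC => ?_, fun hwK => ?_⟩⟩
  · obtain ⟨d, hd, hdi, hdK⟩ := hspan (inner e w) (hK.inner_even w hwC)
    have h0 : inner e (w + d) = 0 := by rw [inner_add, hdi]; funext i; exact CharTwo.add_self_eq_zero _
    have := InK.add e' (hK0 _ h0 (hzero _ (C.add_mem hwC hd) h0)) hdK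
    rwa [add_assoc, Code24.add_self, add_zero] at this
  · obtain ⟨d, hd, hdi, hdK⟩ := hspan (inner e w) (by rw [← hsum']; exact hwK.1)
    obtain ⟨-, b, hb, hbo⟩ := InK.add e' hwK hdK
    have h0' : inner e' (w + d) = 0 := funext fun i => by
      obtain ⟨x, rfl⟩ := σ.surjective i
      show inner e' (w + d) (s x) = 0
      rw [hin', inner_add, hdi]; exact CharTwo.add_self_eq_zero _
    rw [h0', show lab 0 = 0 by simp [lab], quad_zero, Nat.zero_xor, hout'] at hbo
    obtain ⟨u, hu, hu0, hua⟩ := hK.aff_mem b hb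
    have h0 : inner e (w + d) = 0 := by rw [inner_add, hdi]; funext i; exact CharTwo.add_self_eq_zero _
    have heq : w + d = u := word_ext e (h0.trans hu0.symm) (hbo.trans hua.symm)
    have := C.add_mem hu hd
    rwa [← heq, add_assoc, Code24.add_self, add_zero] at this

theorem outer_congr {e e' : Pos ≃ Fin 24} (π : Equiv.Perm (Fin 24)) (h : ∀ x, π (e x) = e' x) (w : Word) :
    outer e (fun p => w (π p)) = outer e' w :=
  outer_eq e (outer_lt e' w) fun i => by rw [testBit_outer, h]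

/-- Uniqueness. -/
theorem exists_perm {C C' : Submodule (ZMod 2) Word} (hC : Good C) (hC' : Good C') :
    ∃ π : Equiv.Perm (Fin 24), ∀ w : Word, w ∈ C' ↔ (fun p => w (π p)) ∈ C := by
  obtain ⟨e, he⟩ := exists_frame hC
  obtain ⟨e', he'⟩ := exists_frame hC'
  refine ⟨e.symm.trans e', fun w => ?_⟩
  have h : ∀ x, (e.symm.trans e') (e x) = e' x := fun x => by simp
  have h1 : outer e (fun p => w ((e.symm.trans e') p)) = outer e' w := outer_congr _ h w
  have h2 : inner e (fun p => w ((e.symm.trans e') p)) = inner e' w :=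
    funext fun i => congrArg w (h (Sum.inl i))
  rw [he', he]
  unfold InK
  rw [h1, h2]

end CfsgLib.Spor.Golay
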