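/-
The code spanned by a Steiner system S(5,8,24), and uniqueness of that system.
-/
import Cfsg.Agent.Lib.Spor.Golay.Unique
import Cfsg.Agent.Lib.Spor.SteinerGeneral

set_option autoImplicit false

namespace CfsgLib.Spor.Golay

open Cfsg Finset CfsgLib.Spor.Code24

/-- Mutually orthogonal spans have dimension at most twelve. -/
theorem finrank_le_twelve (C : Submodule (ZMod 2) Word) (horth : ∀ v ∈ C, ∀ w ∈ C, ∑ i, v i * w i = 0) :
    Module.finrank (ZMod 2) C ≤ 12 := by
  classical
  let ψ : Word →ₗ[ZMod 2] Module.Dual (ZMod 2) C :=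
    { toFun := fun x =>
        { toFun := fun c => ∑ i, x i * (c : Word) i
          map_add' := fun c d => by simp [mul_add, sum_add_distrib]
          map_smul' := fun a c => by simp [mul_left_comm, mul_sum] }
      map_add' := fun x y => LinearMap.ext fun c => by simp [add_mul, sum_add_distrib]
      map_smul' := fun a x => LinearMap.ext fun c => by simp [mul_assoc, mul_sum] }
  have hsurj : Function.Surjective ψ := by
    intro f
    obtain ⟨F, hF⟩ := LinearMap.exists_extend f
    refine ⟨fun i => F (Pi.single i 1), LinearMap.ext fun c => ?_⟩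
    show ∑ i, F (Pi.single i 1) * (c : Word) i = f c
    rw [← hF, LinearMap.comp_apply]
    conv_rhs => rw [show (C.subtype c : Word) = ∑ i, (c : Word) i • Pi.single i (1 : ZMod 2) from
      pi_eq_sum_univ' (c : Word)]
    rw [map_sum]
    refine sum_congr rfl fun i _ => ?_
    rw [map_smul, smul_eq_mul, mul_comm]
  have h1 := LinearMap.finrank_range_add_finrank_ker ψ
  rw [LinearMap.range_eq_top.2 hsurj, finrank_top, Subspace.dual_finrank_eq, Module.finrank_fin_fun] at h1
  have hle : C ≤ LinearMap.ker ψ := fun x hx => LinearMap.mem_ker.2 (LinearMap.ext fun c => horth x hx c c.2)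
  have := Submodule.finrank_mono hle
  omega

theorem orth_span (S : Set Word) (h : ∀ u ∈ S, ∀ v ∈ S, ∑ i, u i * v i = 0) :
    ∀ v ∈ Submodule.span (ZMod 2) S, ∀ w ∈ Submodule.span (ZMod 2) S, ∑ i, v i * w i = 0 := by
  intro v hv w hw
  induction hv using Submodule.span_induction with
  | zero => simp
  | add x y _ _ hx hy => simp only [Pi.add_apply, add_mul, sum_add_distrib, hx, hy, add_zero]
  | smul r x _ hx => simp only [Pi.smul_apply, smul_eq_mul, mul_assoc, ← mul_sum, hx, mul_zero]
  | mem x hxS =>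
    induction hw using Submodule.span_induction with
    | zero => simp
    | add a b _ _ ha hb => simp only [Pi.add_apply, mul_add, sum_add_distrib, ha, hb, add_zero]
    | smul r a _ ha => simp only [Pi.smul_apply, smul_eq_mul, mul_left_comm _ r, ← mul_sum, ha, mul_zero]
    | mem a haS => exact h x hxS a haS

theorem good_of_steiner {B : Finset (Finset Pt)} (hk : ∀ b ∈ B, b.card = 8)
    (hu : ∀ F : Finset Pt, F.card = 5 → ∃! b, b ∈ B ∧ F ⊆ b) :
    ∃ C, Good C ∧ ∀ X : Finset Pt, X ∈ B ↔ ind X ∈ C ∧ X.card = 8 := by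
  classical
  set C := Submodule.span (ZMod 2) (ind '' (B : Set (Finset Pt))) with hCdef
  have hα : Fintype.card Pt = 24 := Fintype.card_fin 24
  have hgen : ∀ b ∈ B, ind b ∈ C := fun b hb => Submodule.subset_span ⟨b, hb, rfl⟩
  have hinter : ∀ u v : Word, ∑ i, u i * v i = ((support₂ u ∩ support₂ v).card : ZMod 2) := by
    intro u v
    have e : ∀ i, u i * v i = if i ∈ support₂ u ∩ support₂ v then 1 else 0 := by
      intro i
      rcases zmod_two (u i) with h | h <;> rcases zmod_two (v i) with h' | h' <;> simp [support₂, h, h']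
    simp only [e, sum_boole, filter_univ_mem]
  have heven : ∀ b ∈ B, ∀ c ∈ B, 2 ∣ (b ∩ c).card := by
    intro b hb c hc
    by_cases h : c = b
    · rw [h, inter_self, hk b hb]; norm_num
    · have hlt := Steiner.meet_lt hk hu hb hc h
      obtain ⟨-, h1, -, h3, -⟩ := Steiner.meet_eight hα hk hu hb
      have e1 := Steiner.meetNum_eq_zero h1 hc h
      have e3 := Steiner.meetNum_eq_zero h3 hc h
      rw [inter_comm]
      omega
  have horth : ∀ v ∈ C, ∀ w ∈ C, ∑ i, v i * w i = 0 := orth_span _ fun u hu v hv => by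
    obtain ⟨b, hb, rfl⟩ := hu
    obtain ⟨c, hc, rfl⟩ := hv
    rw [hinter, supp_ind, supp_ind]
    exact ZMod.natCast_eq_zero_iff_even.2 (even_iff_two_dvd.2 (heven b hb c hc))
  have hfour : ∀ v ∈ C, 4 ∣ hammingNorm v := by
    intro v hv
    suffices H : v ∈ C ∧ 4 ∣ hammingNorm v from H.2
    refine Submodule.span_induction (p := fun v _ => v ∈ C ∧ 4 ∣ hammingNorm v) ?_ ⟨C.zero_mem, by simp⟩ ?_ ?_ hv
    · rintro _ ⟨b, hb, rfl⟩
      exact ⟨hgen b hb, by rw [norm_ind, hk b hb]; norm_num⟩
    · intro x y _ _ hx hy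
      refine ⟨C.add_mem hx.1 hy.1, ?_⟩
      have h0 := horth x hx.1 y hy.1
      rw [hinter] at h0
      have := (ZMod.natCast_eq_zero_iff_even.1 h0).two_dvd
      have := norm_add x y
      have := hx.2
      have := hy.2
      omega
    · intro r x _ hx
      refine ⟨C.smul_mem r hx.1, ?_⟩
      rcases zmod_two r with rfl | rfl
      · simp
      · rw [one_smul]; exact hx.2
  -- every coset has a word of weight at most four
  have hred : ∀ n, ∀ v : Word, hammingNorm v = n → ∃ F : Finset Pt, F.card ≤ 4 ∧ v + ind F ∈ C := by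
    intro n
    induction n using Nat.strong_induction_on with
    | _ n ih =>
      intro v hn
      by_cases h4 : n ≤ 4
      · exact ⟨support₂ v, by rw [← norm_eq]; omega, by rw [ind_supp, Code24.add_self]; exact C.zero_mem⟩
      · obtain ⟨F5, hF5v, hF5⟩ := exists_subset_card_eq (s := support₂ v) (n := 5) (by rw [← norm_eq]; omega)
        obtain ⟨b, ⟨hb, hFb⟩, -⟩ := hu F5 hF5
        have hn' := norm_add v (ind b)
        rw [norm_ind, supp_ind, hk b hb] at hn'
        have := card_le_card (subset_inter hF5v hFb)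
        obtain ⟨F, hF, hFC⟩ := ih (hammingNorm (v + ind b)) (by omega) _ rfl
        refine ⟨F, hF, ?_⟩
        have := C.add_mem hFC (hgen b hb)
        rwa [show v + ind b + ind F + ind b = v + ind F + (ind b + ind b) by abel, Code24.add_self, add_zero] at this
  let cls : Finset Pt → Word ⧸ C := fun F => Submodule.Quotient.mk (ind F)
  haveI : Fintype (Word ⧸ C) := Fintype.ofFinite _
  have hcls : ∀ F G, ind F + ind G ∈ C → cls F = cls G := fun F G h =>
    (Submodule.Quotient.eq C).2 (by rw [sub_eq_add']; exact h)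
  have hcover : (univ : Finset (Word ⧸ C)) ⊆ small.image cls ∪ (powersetCard 4 (univ : Finset Pt)).image cls := by
    intro x _
    obtain ⟨v, rfl⟩ := Submodule.Quotient.mk_surjective C x
    obtain ⟨F, hF, hFC⟩ := hred _ v rfl
    have e : Submodule.Quotient.mk v = cls F := (Submodule.Quotient.eq C).2 (by rw [sub_eq_add']; exact hFC)
    rw [e, mem_union]
    rcases Nat.lt_or_ge F.card 4 with h | h
    · exact Or.inl (mem_image_of_mem _ ((mem_small F).2 (by omega)))
    · exact Or.inr (mem_image_of_mem _ (mem_powersetCard.2 ⟨subset_univ _, by omega⟩))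
  have hsix : ∀ x ∈ (powersetCard 4 (univ : Finset Pt)).image cls,
      6 ≤ ((powersetCard 4 (univ : Finset Pt)).filter fun F => cls F = x).card := by
    intro x hx
    obtain ⟨T, hT, rfl⟩ := mem_image.1 hx
    have hTc := (mem_powersetCard.1 hT).2
    have h5 := Steiner.blocks_through hk hu T (by omega)
    simp [hTc, Nat.choose] at h5
    have hsub : insert T ((B.filter fun b => T ⊆ b).image fun b => b \ T) ⊆
        (powersetCard 4 (univ : Finset Pt)).filter fun F => cls F = cls T := by
      intro F hF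
      rcases mem_insert.1 hF with rfl | hF
      · exact mem_filter.2 ⟨hT, rfl⟩
      · obtain ⟨b, hb, rfl⟩ := mem_image.1 hF
        obtain ⟨hb1, hb2⟩ := mem_filter.1 hb
        refine mem_filter.2 ⟨mem_powersetCard.2 ⟨subset_univ _, by rw [card_sdiff_of_subset hb2, hk b hb1, hTc]⟩, hcls _ _ ?_⟩
        have e : ind (b \ T) + ind T = ind b := by
          funext i
          by_cases h1 : i ∈ T
          · simp [ind, h1, hb2 h1]
          · by_cases h2 : i ∈ b <;> simp [ind, h1, h2]
        rw [e]; exact hgen b hb1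
    have hc := card_le_card hsub
    rw [card_insert_of_notMem, card_image_of_injOn] at hc
    · omega
    · intro b hb c hc h
      simp only at h
      rw [← sdiff_union_of_subset (mem_filter.1 hb).2, h, sdiff_union_of_subset (mem_filter.1 hc).2]
    · intro h
      obtain ⟨b, hb, e⟩ := mem_image.1 h
      obtain ⟨x, hx⟩ := card_pos.1 (by omega : 0 < T.card)
      have := e.symm ▸ hx
      exact (mem_sdiff.1 this).2 hx
  have hT1771 : ((powersetCard 4 (univ : Finset Pt)).image cls).card ≤ 1771 := by
    have h : ((powersetCard 4 (univ : Finset Pt)).image cls).card * 6 ≤ (powersetCard 4 (univ : Finset Pt)).card := by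
      rw [card_eq_sum_card_image cls (powersetCard 4 (univ : Finset Pt)), ← smul_eq_mul, ← sum_const]
      exact sum_le_sum hsix
    rw [card_powersetCard, card_univ, Fintype.card_fin, show Nat.choose 24 4 = 10626 by decide] at h
    omega
  have hQ : Nat.card (Word ⧸ C) ≤ 4096 := by
    rw [Nat.card_eq_fintype_card, ← card_univ]
    refine (card_le_card hcover).trans ((card_union_le _ _).trans ?_)
    have := (card_image_le (f := cls) (s := small)).trans card_small.le
    omega
  have hdim : Module.finrank (ZMod 2) C = 12 := by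
    refine le_antisymm (finrank_le_twelve C horth) ?_
    have h := Submodule.card_eq_card_quotient_mul_card C
    rw [Nat.card_fun, Nat.card_zmod, Nat.card_fin, Module.natCard_eq_pow_finrank (K := ZMod 2) (V := C), Nat.card_zmod] at h
    by_contra hlt
    push Not at hlt
    have h11 : 2 ^ Module.finrank (ZMod 2) C ≤ 2 ^ 11 := Nat.pow_le_pow_right (by norm_num) (by omega)
    have := Nat.mul_le_mul h11 hQ
    omega
  have hmin : ∀ w ∈ C, w ≠ 0 → 8 ≤ hammingNorm w := by
    intro w hw h0
    have h4 := hfour w hw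
    have hne : hammingNorm w ≠ 0 := fun e => h0 (hammingNorm_eq_zero.1 e)
    by_contra hlt
    have hw4 : (support₂ w).card = 4 := by rw [← norm_eq]; omega
    obtain ⟨Y, hY, hY3⟩ := exists_subset_card_eq (s := support₂ w) (n := 3) (by omega)
    have h21 := Steiner.blocks_through hk hu Y (by omega)
    have h5 := Steiner.blocks_through hk hu (support₂ w) (by omega)
    simp [hY3, Nat.choose] at h21
    simp [hw4, Nat.choose] at h5
    have : (B.filter fun b => Y ⊆ b) ⊆ B.filter fun b => support₂ w ⊆ b := by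
      intro b hb
      obtain ⟨hb1, hb2⟩ := mem_filter.1 hb
      refine mem_filter.2 ⟨hb1, ?_⟩
      have h := horth w hw (ind b) (hgen b hb1)
      rw [hinter, supp_ind] at h
      have h2 := (ZMod.natCast_eq_zero_iff_even.1 h).two_dvd
      have h3 := card_le_card (subset_inter hY hb2)
      have h4' := card_le_card (inter_subset_left : support₂ w ∩ b ⊆ support₂ w)
      exact inter_eq_left.1 (eq_of_subset_of_card_le inter_subset_left (by omega))
    have := card_le_card this
    omega
  refine ⟨C, ⟨hdim, horth, hmin⟩, fun X => ⟨fun hX => ⟨hgen X hX, hk X hX⟩, fun ⟨hX, hX8⟩ => ?_⟩⟩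
  obtain ⟨F, hFX, hF⟩ := exists_subset_card_eq (s := X) (n := 5) (by omega)
  obtain ⟨b, ⟨hb, hFb⟩, -⟩ := hu F hF
  have e := (Good.mk hdim horth hmin).eq_of_small (C.add_mem hX (hgen b hb)) (by
    rw [norm_ind, norm_ind, supp_ind, supp_ind, hX8, hk b hb]
    have := card_le_card (subset_inter hFX hFb)
    omega)
  have := congrArg support₂ e
  rw [supp_ind, supp_ind] at this
  exact this ▸ hb

/-- Any two S(5,8,24) systems on `Fin 24` are isomorphic. -/
theorem steiner_perm {B B' : Finset (Finset Pt)} (hk : ∀ b ∈ B, b.card = 8)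
    (hu : ∀ F : Finset Pt, F.card = 5 → ∃! b, b ∈ B ∧ F ⊆ b) (hk' : ∀ b ∈ B', b.card = 8)
    (hu' : ∀ F : Finset Pt, F.card = 5 → ∃! b, b ∈ B' ∧ F ⊆ b) :
    ∃ π : Equiv.Perm Pt, ∀ X : Finset Pt, X ∈ B ↔ X.image π ∈ B' := by
  obtain ⟨C, hC, hB⟩ := good_of_steiner hk hu
  obtain ⟨C', hC', hB'⟩ := good_of_steiner hk' hu'
  obtain ⟨π, hπ⟩ := exists_perm hC hC'
  refine ⟨π, fun X => ?_⟩
  have e : (fun p => ind (X.image π) (π p)) = ind X := funext fun p => by simp [ind]
  rw [hB, hB', hπ, e, card_image_of_injective _ π.injective]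

theorem tr {γ : Type*} [Fintype γ] [DecidableEq γ] (g : γ ≃ Pt) {S : Set (Finset γ)} [Fintype S]
    (hS : Cfsg.IsSteinerSystem 5 8 S) :
    (∀ b ∈ (S.toFinset.image fun X => X.image g), b.card = 8) ∧
      ∀ F : Finset Pt, F.card = 5 → ∃! b, b ∈ (S.toFinset.image fun X => X.image g) ∧ F ⊆ b := by
  refine ⟨fun b hb => ?_, fun F hF => ?_⟩
  · obtain ⟨X, hX, rfl⟩ := mem_image.1 hb
    rw [card_image_of_injective _ g.injective]
    exact hS.1 X (Set.mem_toFinset.1 hX)
  · obtain ⟨X, ⟨hX, hFX⟩, huniq⟩ := hS.2 (F.image g.symm) (by rw [card_image_of_injective _ g.symm.injective, hF])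
    refine ⟨X.image g, ⟨mem_image_of_mem _ (Set.mem_toFinset.2 hX), fun p hp => ?_⟩, ?_⟩
    · exact mem_image.2 ⟨_, hFX (mem_image_of_mem _ hp), g.apply_symm_apply p⟩
    · rintro b ⟨hb, hFb⟩
      obtain ⟨Y, hY, rfl⟩ := mem_image.1 hb
      rw [huniq Y ⟨Set.mem_toFinset.1 hY, fun p hp => ?_⟩]
      obtain ⟨q, hq, rfl⟩ := mem_image.1 hp
      obtain ⟨r, hr, e'⟩ := mem_image.1 (hFb hq)
      rwa [← e', g.symm_apply_apply]

/-- Transported to any two types. -/
theorem steiner_iso {α β : Type*} [Fintype α] [DecidableEq α] [Fintype β] [DecidableEq β]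
    (hα : Fintype.card α = 24) (hβ : Fintype.card β = 24) {B : Set (Finset α)} {B' : Set (Finset β)}
    (hB : Cfsg.IsSteinerSystem 5 8 B) (hB' : Cfsg.IsSteinerSystem 5 8 B') : Cfsg.SetSystemIso B B' := by
  classical
  let e := Fintype.equivFinOfCardEq hα
  let f := Fintype.equivFinOfCardEq hβ
  obtain ⟨π, hπ⟩ := steiner_perm (tr e hB).1 (tr e hB).2 (tr f hB').1 (tr f hB').2
  refine ⟨e.trans (π.trans f.symm), Set.ext fun Y => ⟨?_, fun hY => ?_⟩⟩
  · rintro ⟨X, hX, rfl⟩
    obtain ⟨Z, hZ, hZe⟩ := mem_image.1 ((hπ _).1 (mem_image_of_mem _ (Set.mem_toFinset.2 hX)))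
    have : X.image (e.trans (π.trans f.symm)) = Z := by
      rw [Equiv.coe_trans, Equiv.coe_trans, ← image_image, ← image_image, ← hZe, image_image,
        Equiv.symm_comp_self, image_id]
    show X.image (e.trans (π.trans f.symm)) ∈ B'
    exact this ▸ Set.mem_toFinset.1 hZ
  · have h1 : (Y.image f).image π.symm ∈ B.toFinset.image fun X => X.image e := by
      refine (hπ _).2 ?_
      rw [image_image, image_image, show ((π ∘ π.symm) ∘ f : β → Pt) = f from funext fun p => π.apply_symm_apply _]
      exact mem_image_of_mem _ (Set.mem_toFinset.2 hY)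
    obtain ⟨X, hX, hXe⟩ := mem_image.1 h1
    refine ⟨X, Set.mem_toFinset.1 hX, ?_⟩
    show X.image (e.trans (π.trans f.symm)) = Y
    rw [Equiv.coe_trans, Equiv.coe_trans, ← image_image, ← image_image, hXe, image_image, image_image, image_image]
    refine (image_congr fun p _ => ?_).trans image_id
    simp

end CfsgLib.Spor.Golay
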