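/-
Consequences of uniqueness for the standard code and octads.
-/
import Cfsg.Agent.Lib.Spor.Golay.SteinerUnique
import Cfsg.Agent.S0358
import Cfsg.Agent.S0359
import Cfsg.Agent.S0362

set_option autoImplicit false

namespace CfsgLib.Spor.Golay

open Cfsg Finset CfsgLib.Spor.Code24

theorem exists_golay_equiv {C : Submodule (ZMod 2) Word} (hC : Good C) :
    ∃ e : Fin 24 ≃ GolayPt, ∀ w : GolayPt → ZMod 2, w ∈ golayCode ↔ (fun i => w (e i)) ∈ C := by
  classical
  let e0 : Fin 24 ≃ GolayPt := (Fintype.equivFinOfCardEq (by simp : Fintype.card GolayPt = 24)).symm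
  let L : (GolayPt → ZMod 2) ≃ₗ[ZMod 2] Word := LinearEquiv.funCongrLeft (ZMod 2) (ZMod 2) e0
  have hL : ∀ (w : GolayPt → ZMod 2) i, L w i = w (e0 i) := fun w i => rfl
  have hnorm : ∀ w, hammingNorm (L w) = hammingNorm w := by
    intro w
    refine card_bij (fun i _ => e0 i) (fun i hi => ?_) (fun i _ j _ h => e0.injective h) fun p hp => ?_
    · simpa [hL] using hi
    · exact ⟨e0.symm p, by simpa [hL] using hp, e0.apply_symm_apply p⟩
  have hG : Good (golayCode.map L.toLinearMap) := by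
    refine ⟨?_, ?_, ?_⟩
    · rw [LinearEquiv.finrank_map_eq, Cfsg.Agent.S0358.result]
    · rintro _ ⟨v, hv, rfl⟩ _ ⟨w, hw, rfl⟩
      exact (Equiv.sum_comp e0 fun p => v p * w p).trans (Cfsg.Agent.S0362.result v w hv hw)
    · rintro _ ⟨v, hv, rfl⟩ hne
      show 8 ≤ hammingNorm (L v)
      rw [hnorm]
      have hv0 : hammingNorm v ≠ 0 := fun h => hne (by rw [hammingNorm_eq_zero.1 h, map_zero])
      rcases Cfsg.Agent.S0359.result v hv with h | h | h | h | h <;> omega
  obtain ⟨π, hπ⟩ := exists_perm hC hG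
  refine ⟨π.trans e0, fun w => ?_⟩
  rw [show (fun i => w ((π.trans e0) i)) = fun i => L w (π i) from rfl, ← hπ]
  exact ⟨fun h => ⟨w, h, rfl⟩, fun ⟨v, hv, h⟩ => L.injective h ▸ hv⟩

/-- In an S(5,8,24), the sum of two blocks meeting in four points is a block. -/
theorem symmDiff_block {α : Type*} [Fintype α] [DecidableEq α] (hα : Fintype.card α = 24) {B : Set (Finset α)}
    (hB : Cfsg.IsSteinerSystem 5 8 B) {b c : Finset α} (hb : b ∈ B) (hc : c ∈ B) (h4 : (b ∩ c).card = 4) :
    symmDiff b c ∈ B := by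
  classical
  let e := Fintype.equivFinOfCardEq hα
  obtain ⟨C, -, hX⟩ := good_of_steiner (tr e hB).1 (tr e hB).2
  have key : ∀ X, X ∈ B ↔ ind (X.image e) ∈ C ∧ (X.image e).card = 8 := fun X => by
    rw [← hX, mem_image]
    refine ⟨fun h => ⟨X, Set.mem_toFinset.2 h, rfl⟩, fun ⟨Y, hY, h⟩ => ?_⟩
    have := image_injective e.injective h
    exact this ▸ Set.mem_toFinset.1 hY
  rw [key]
  have e1 : ind ((symmDiff b c).image e) = ind (b.image e) + ind (c.image e) := funext fun p => by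
    obtain ⟨x, rfl⟩ := e.surjective p
    by_cases h1 : x ∈ b <;> by_cases h2 : x ∈ c <;> simp [ind, Finset.mem_symmDiff, h1, h2] <;> decide
  refine ⟨e1 ▸ C.add_mem ((key b).1 hb).1 ((key c).1 hc).1, ?_⟩
  rw [card_image_of_injective _ e.injective, show symmDiff b c = (b \ c) ∪ (c \ b) from rfl, card_union_of_disjoint (disjoint_sdiff_sdiff : Disjoint (b \ c) (c \ b)),
    card_sdiff, card_sdiff, hB.1 b hb, hB.1 c hc, inter_comm c b, h4]

end CfsgLib.Spor.Golay
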