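/-
The code spanned by the extended blocks of an S(4,7,23).
-/
import Cfsg.Agent.Lib.Spor.Golay.SteinerUnique
import Cfsg.Agent.Lib.Spor.SteinerMeets
import Mathlib.Data.Finset.Option

set_option autoImplicit false

namespace CfsgLib.Spor.Golay

open Cfsg Finset CfsgLib.Spor.Code24

variable {α : Type*} [Fintype α] [DecidableEq α]

/-- An extended set as a set of positions. -/
def ext (e : Option α ≃ Fin 24) (b : Finset α) : Finset Pt := (insertNone b).image e

theorem card_ext (e : Option α ≃ Fin 24) (b : Finset α) : (ext e b).card = b.card + 1 := by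
  rw [ext, card_image_of_injective _ e.injective, card_insertNone]

/-- The finite points of a set of positions. -/
def fin' (e : Option α ≃ Fin 24) (F : Finset Pt) : Finset α := univ.filter fun x => e (some x) ∈ F

theorem mem_ext_some (e : Option α ≃ Fin 24) (b : Finset α) (x : α) : e (some x) ∈ ext e b ↔ x ∈ b := by
  simp [ext]

theorem mem_ext_none (e : Option α ≃ Fin 24) (b : Finset α) : e none ∈ ext e b := by simp [ext]

theorem card_eq_fin' (e : Option α ≃ Fin 24) (F : Finset Pt) :
    F.card = (fin' e F).card + if e none ∈ F then 1 else 0 := by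
  have h : F.card = (univ.filter fun o => e o ∈ F).card :=
    (card_bij (fun o _ => e o) (fun o ho => (mem_filter.1 ho).2) (fun a _ b _ h => e.injective h)
      (fun p hp => ⟨e.symm p, by simp [hp], e.apply_symm_apply p⟩)).symm
  rw [h, card_filter, Fintype.sum_option, fin', card_filter, add_comm]

theorem inter_ext (e : Option α ≃ Fin 24) (F : Finset Pt) (b : Finset α) :
    (F ∩ ext e b).card = (b ∩ fin' e F).card + if e none ∈ F then 1 else 0 := by
  have h1 : fin' e (F ∩ ext e b) = b ∩ fin' e F := by
    ext x; simp [fin', mem_ext_some, and_comm]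
  rw [card_eq_fin' e (F ∩ ext e b), h1]
  simp [mem_ext_none]

/-- The span of the extended blocks. -/
def extCode (e : Option α ≃ Fin 24) (B : Finset (Finset α)) : Submodule (ZMod 2) Word :=
  Submodule.span (ZMod 2) (Set.range fun b : B => ind (ext e b.1))

theorem good_extCode (hα : Fintype.card α = 23) {B : Finset (Finset α)} (hk : ∀ b ∈ B, b.card = 7)
    (hu : ∀ F : Finset α, F.card = 4 → ∃! b, b ∈ B ∧ F ⊆ b) (e : Option α ≃ Fin 24) :
    Good (extCode e B) ∧ ∀ X : Finset α, X.card = 7 → ind (ext e X) ∈ extCode e B → X ∈ B := by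
  classical
  set C := extCode e B with hC
  have hgen : ∀ b ∈ B, ind (ext e b) ∈ C := fun b hb => Submodule.subset_span ⟨⟨b, hb⟩, rfl⟩
  have hg8 : ∀ b ∈ B, (ext e b).card = 8 := fun b hb => by rw [card_ext, hk b hb]
  have hinter : ∀ u v : Word, ∑ i, u i * v i = ((support₂ u ∩ support₂ v).card : ZMod 2) := by
    intro u v
    have e' : ∀ i, u i * v i = if i ∈ support₂ u ∩ support₂ v then 1 else 0 := by
      intro i
      rcases zmod_two (u i) with h | h <;> rcases zmod_two (v i) with h' | h' <;> simp [support₂, h, h']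
    simp only [e', sum_boole, filter_univ_mem]
  have heven : ∀ b ∈ B, ∀ c ∈ B, 2 ∣ (ext e b ∩ ext e c).card := by
    intro b hb c hc
    rw [inter_ext, show fin' e (ext e b) = b by ext x; simp [fin', mem_ext_some], if_pos (mem_ext_none e b)]
    by_cases h : c = b
    · rw [h, inter_self, hk b hb]; norm_num
    · obtain ⟨h0, -, h2, -⟩ := Steiner.meet_seven hα hk hu hb
      have hlt := Steiner.meet_lt hk hu hb hc h
      have e0 := Steiner.meetNum_eq_zero h0 hc h
      have e2 := Steiner.meetNum_eq_zero h2 hc h
      omega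
  have horth : ∀ v ∈ C, ∀ w ∈ C, ∑ i, v i * w i = 0 := orth_span _ fun u hu' v hv => by
    obtain ⟨⟨b, hb⟩, rfl⟩ := hu'
    obtain ⟨⟨c, hc⟩, rfl⟩ := hv
    rw [hinter, supp_ind, supp_ind]
    exact ZMod.natCast_eq_zero_iff_even.2 (even_iff_two_dvd.2 (heven b hb c hc))
  have hfour : ∀ v ∈ C, 4 ∣ hammingNorm v := by
    intro v hv
    suffices H : v ∈ C ∧ 4 ∣ hammingNorm v from H.2
    refine Submodule.span_induction (p := fun v _ => v ∈ C ∧ 4 ∣ hammingNorm v) ?_ ⟨C.zero_mem, by simp⟩ ?_ ?_ hv
    · rintro _ ⟨⟨b, hb⟩, rfl⟩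
      exact ⟨hgen b hb, by rw [norm_ind, hg8 b hb]; norm_num⟩
    · intro x y _ _ hx hy
      refine ⟨C.add_mem hx.1 hy.1, ?_⟩
      have h0 := horth x hx.1 y hy.1
      rw [hinter] at h0
      have := (ZMod.natCast_eq_zero_iff_even.1 h0).two_dvd
      have := norm_add x y
      have := hx.2
      have := hy.2
      omega
    · intro r x _ hx
      refine ⟨C.smul_mem r hx.1, ?_⟩
      rcases zmod_two r with rfl | rfl
      · simp
      · rw [one_smul]; exact hx.2
  -- every coset has a word of weight at most four
  have hstep : ∀ v : Word, 5 ≤ hammingNorm v → ∃ b ∈ B, hammingNorm (v + ind (ext e b)) < hammingNorm v ∨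
      (v (e none) = 0 ∧ (v + ind (ext e b)) (e none) = 1 ∧ hammingNorm (v + ind (ext e b)) = hammingNorm v) := by
    intro v h5
    have hsv := card_eq_fin' e (support₂ v)
    rw [← norm_eq] at hsv
    obtain ⟨F, hFv, hF⟩ := exists_subset_card_eq (s := fin' e (support₂ v)) (n := 4) (by split_ifs at hsv <;> omega)
    obtain ⟨b, ⟨hb, hFb⟩, -⟩ := hu F hF
    refine ⟨b, hb, ?_⟩
    have hn := norm_add v (ind (ext e b))
    rw [norm_ind, supp_ind, hg8 b hb] at hn
    have hi := inter_ext e (support₂ v) b
    have hk4 := card_le_card (subset_inter hFb hFv)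
    by_cases hlt : hammingNorm (v + ind (ext e b)) < hammingNorm v
    · exact Or.inl hlt
    · have hnone : e none ∉ support₂ v := fun h => hlt (by rw [if_pos h] at hi; omega)
      have hv0 : v (e none) = 0 := by
        by_contra h
        exact hnone (mem_filter.2 ⟨mem_univ _, h⟩)
      refine Or.inr ⟨hv0, ?_, ?_⟩
      · rw [Pi.add_apply, hv0, zero_add, ind, if_pos (mem_ext_none e b)]
      · rw [if_neg hnone] at hi; omega
  have hred : ∀ n, ∀ v : Word, 2 * hammingNorm v + (if v (e none) = 0 then 1 else 0) = n →
      ∃ F : Finset Pt, F.card ≤ 4 ∧ v + ind F ∈ C := by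
    intro n
    induction n using Nat.strong_induction_on with
    | _ n ih =>
      intro v hn
      by_cases h4 : hammingNorm v ≤ 4
      · exact ⟨support₂ v, by rw [← norm_eq]; exact h4, by rw [ind_supp, Code24.add_self]; exact C.zero_mem⟩
      · obtain ⟨b, hb, hcase⟩ := hstep v (by omega)
        have hm : 2 * hammingNorm (v + ind (ext e b)) + (if (v + ind (ext e b)) (e none) = 0 then 1 else 0) < n := by
          rcases hcase with h | ⟨h0, h1, h2⟩
          · split_ifs <;> omega
          · rw [h1, h2, if_neg one_ne_zero]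
            rw [if_pos h0] at hn
            omega
        obtain ⟨F, hF, hFC⟩ := ih _ hm _ rfl
        refine ⟨F, hF, ?_⟩
        have := C.add_mem hFC (hgen b hb)
        rwa [show v + ind (ext e b) + ind F + ind (ext e b) = v + ind F + (ind (ext e b) + ind (ext e b)) by abel,
          Code24.add_self, add_zero] at this
  let cls : Finset Pt → Word ⧸ C := fun F => Submodule.Quotient.mk (ind F)
  haveI : Fintype (Word ⧸ C) := Fintype.ofFinite _
  have hsdiff : ∀ b ∈ B, ∀ T ⊆ ext e b, cls (ext e b \ T) = cls T := fun b hb T hT =>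
    (Submodule.Quotient.eq C).2 (by
      rw [sub_eq_add', show ind (ext e b \ T) + ind T = ind (ext e b) from funext fun i => ?_]
      · exact hgen b hb
      · by_cases h1 : i ∈ T
        · simp [ind, h1, hT h1]
        · by_cases h2 : i ∈ ext e b <;> simp [ind, h1, h2])
  have hcover : (univ : Finset (Word ⧸ C)) ⊆ small.image cls ∪ (powersetCard 4 (univ : Finset Pt)).image cls := by
    intro x _
    obtain ⟨v, rfl⟩ := Submodule.Quotient.mk_surjective C x
    obtain ⟨F, hF, hFC⟩ := hred _ v rfl
    have e' : Submodule.Quotient.mk v = cls F := (Submodule.Quotient.eq C).2 (by rw [sub_eq_add']; exact hFC)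
    rw [e', mem_union]
    rcases Nat.lt_or_ge F.card 4 with h | h
    · exact Or.inl (mem_image_of_mem _ ((mem_small F).2 (by omega)))
    · exact Or.inr (mem_image_of_mem _ (mem_powersetCard.2 ⟨subset_univ _, by omega⟩))
  have hsix0 : ∀ T : Finset Pt, T.card = 4 → e none ∈ T →
      6 ≤ ((powersetCard 4 (univ : Finset Pt)).filter fun F => cls F = cls T).card := by
    intro T hT hTn
    have hT3 : (fin' e T).card = 3 := by have := card_eq_fin' e T; rw [if_pos hTn] at this; omega
    have h5 := Steiner.blocks_through hk hu (fin' e T) (by omega)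
    simp [hT3, hα, Nat.choose] at h5
    have hTb : ∀ b, fin' e T ⊆ b → T ⊆ ext e b := fun b hb p hp => by
      obtain ⟨o, rfl⟩ := e.surjective p
      cases o with
      | none => exact mem_ext_none e b
      | some x => exact (mem_ext_some e b x).2 (hb (mem_filter.2 ⟨mem_univ _, hp⟩))
    have hsub : insert T ((B.filter fun b => fin' e T ⊆ b).image fun b => ext e b \ T) ⊆
        (powersetCard 4 (univ : Finset Pt)).filter fun F => cls F = cls T := by
      intro F hF
      rcases mem_insert.1 hF with rfl | hF
      · exact mem_filter.2 ⟨mem_powersetCard.2 ⟨subset_univ _, hT⟩, rfl⟩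
      · obtain ⟨b, hb, rfl⟩ := mem_image.1 hF
        obtain ⟨hb1, hb2⟩ := mem_filter.1 hb
        exact mem_filter.2 ⟨mem_powersetCard.2 ⟨subset_univ _, by rw [card_sdiff_of_subset (hTb b hb2), hg8 b hb1, hT]⟩,
          hsdiff b hb1 T (hTb b hb2)⟩
    have hc := card_le_card hsub
    rw [card_insert_of_notMem, card_image_of_injOn] at hc
    · omega
    · intro b hb c hc h
      simp only at h
      have h' : ext e b = ext e c := by
        rw [← sdiff_union_of_subset (hTb b (mem_filter.1 hb).2), h, sdiff_union_of_subset (hTb c (mem_filter.1 hc).2)]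
      ext x
      rw [← mem_ext_some e b, h', mem_ext_some]
    · intro h
      obtain ⟨b, hb, he⟩ := mem_image.1 h
      exact (mem_sdiff.1 (he.symm ▸ hTn)).2 hTn
  have hsix : ∀ x ∈ (powersetCard 4 (univ : Finset Pt)).image cls,
      6 ≤ ((powersetCard 4 (univ : Finset Pt)).filter fun F => cls F = x).card := by
    intro x hx
    obtain ⟨T, hT, rfl⟩ := mem_image.1 hx
    have hTc := (mem_powersetCard.1 hT).2
    by_cases hTn : e none ∈ T
    · exact hsix0 T hTc hTn
    · have hT4 : (fin' e T).card = 4 := by have := card_eq_fin' e T; rw [if_neg hTn] at this; omega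
      obtain ⟨b, ⟨hb, hTb⟩, -⟩ := hu _ hT4
      have hsubT : T ⊆ ext e b := fun p hp => by
        obtain ⟨o, rfl⟩ := e.surjective p
        cases o with
        | none => exact absurd hp hTn
        | some x => exact (mem_ext_some e b x).2 (hTb (mem_filter.2 ⟨mem_univ _, hp⟩))
      rw [← hsdiff b hb T hsubT]
      exact hsix0 _ (by rw [card_sdiff_of_subset hsubT, hg8 b hb, hTc]) (mem_sdiff.2 ⟨mem_ext_none e b, hTn⟩)
  have hT1771 : ((powersetCard 4 (univ : Finset Pt)).image cls).card ≤ 1771 := by
    have h : ((powersetCard 4 (univ : Finset Pt)).image cls).card * 6 ≤ (powersetCard 4 (univ : Finset Pt)).card := by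
      rw [card_eq_sum_card_image cls (powersetCard 4 (univ : Finset Pt)), ← smul_eq_mul, ← sum_const]
      exact sum_le_sum hsix
    rw [card_powersetCard, card_univ, Fintype.card_fin, show Nat.choose 24 4 = 10626 by decide] at h
    omega
  have hQ : Nat.card (Word ⧸ C) ≤ 4096 := by
    rw [Nat.card_eq_fintype_card, ← card_univ]
    refine (card_le_card hcover).trans ((card_union_le _ _).trans ?_)
    have := (card_image_le (f := cls) (s := small)).trans card_small.le
    omega
  have hdim : Module.finrank (ZMod 2) C = 12 := by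
    refine le_antisymm (finrank_le_twelve C horth) ?_
    have h := Submodule.card_eq_card_quotient_mul_card C
    rw [Nat.card_fun, Nat.card_zmod, Nat.card_fin, Module.natCard_eq_pow_finrank (K := ZMod 2) (V := C), Nat.card_zmod] at h
    by_contra hlt
    push Not at hlt
    have h11 : 2 ^ Module.finrank (ZMod 2) C ≤ 2 ^ 11 := Nat.pow_le_pow_right (by norm_num) (by omega)
    have := Nat.mul_le_mul h11 hQ
    omega
  have hmin : ∀ w ∈ C, w ≠ 0 → 8 ≤ hammingNorm w := by
    intro w hw h0
    have h4 := hfour w hw
    have hne : hammingNorm w ≠ 0 := fun h => h0 (hammingNorm_eq_zero.1 h)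
    by_contra hlt
    have hw4 : (support₂ w).card = 4 := by rw [← norm_eq]; omega
    set Y := fin' e (support₂ w) with hY
    have hpar : ∀ b ∈ B, ((b ∩ Y).card + if e none ∈ support₂ w then 1 else 0) % 2 = 0 := fun b hb => by
      have h := horth w hw (ind (ext e b)) (hgen b hb)
      rw [hinter, supp_ind, inter_ext] at h
      exact Nat.even_iff.1 (ZMod.natCast_eq_zero_iff_even.1 h)
    have hYc := card_eq_fin' e (support₂ w)
    rw [hw4, ← hY] at hYc
    have hle : ∀ b : Finset α, (b ∩ Y).card ≤ Y.card := fun b => card_le_card inter_subset_right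
    by_cases hn : e none ∈ support₂ w
    · rw [if_pos hn] at hYc
      simp only [if_pos hn] at hpar
      have h1 := Steiner.sum_choose_meet hk hu Y 1 (by omega)
      have hB : B.card = 253 := by
        have := Steiner.blocks_through hk hu ∅ (by simp)
        simp [hα, Nat.choose] at this
        omega
      have hsum : B.card ≤ ∑ c ∈ B, (c ∩ Y).card.choose 1 := by
        rw [card_eq_sum_ones]
        refine sum_le_sum fun c hc => ?_
        have := hpar c hc
        rw [Nat.choose_one_right]
        omega
      simp [hα, show Y.card = 3 by omega, Nat.choose] at h1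
      simp only [Nat.choose_one_right] at hsum
      omega
    · rw [if_neg hn] at hYc
      simp only [if_neg hn] at hpar
      have h3 := Steiner.sum_choose_meet hk hu Y 3 (by omega)
      obtain ⟨b, ⟨hb, hYb⟩, huniq⟩ := hu Y (by omega)
      have hsum : ∑ c ∈ B, (c ∩ Y).card.choose 3 = 4 := by
        rw [sum_eq_single_of_mem b hb fun c hc hne' => ?_, inter_eq_right.2 hYb, show Y.card = 4 by omega]
        · rfl
        · refine Nat.choose_eq_zero_of_lt ?_
          have hlt4 : (c ∩ Y).card < 4 := by
            by_contra hh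
            exact hne' (huniq c ⟨hc, inter_eq_right.1 (eq_of_subset_of_card_le inter_subset_right (by omega))⟩)
          have := hpar c hc
          omega
      rw [hsum] at h3
      simp [hα, show Y.card = 4 by omega, Nat.choose] at h3
  refine ⟨⟨hdim, horth, hmin⟩, fun X hX7 hX => ?_⟩
  obtain ⟨F, hFX, hF⟩ := exists_subset_card_eq (s := X) (n := 4) (by omega)
  obtain ⟨b, ⟨hb, hFb⟩, -⟩ := hu F hF
  have he := (Good.mk hdim horth hmin).eq_of_small (C.add_mem hX (hgen b hb)) (by
    rw [norm_ind, norm_ind, supp_ind, supp_ind, card_ext, hX7, hg8 b hb, inter_ext,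
      if_pos (mem_ext_none e X), show fin' e (ext e X) = X by ext x; simp [fin', mem_ext_some]]
    have := card_le_card (subset_inter hFb hFX)
    omega)
  have hXb : X = b := by
    have := congrArg support₂ he
    rw [supp_ind, supp_ind] at this
    ext x
    rw [← mem_ext_some e X, this, mem_ext_some]
  exact hXb ▸ hb

end CfsgLib.Spor.Golay
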