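/-
S(4,7,23) systems: identification with the octads through a point.
-/
import Cfsg.Agent.Lib.Spor.Golay.ExtendSteiner
import Cfsg.Agent.Lib.Spor.Golay.Consequences
import Cfsg.Agent.Lib.Spor.SetSystemConj
import Cfsg.Agent.Lib.Spor.M24Transitive
import Cfsg.Agent.S0366
import Cfsg.Agent.S0369

set_option autoImplicit false

namespace CfsgLib.Spor.Golay

open Cfsg Finset CfsgLib.Spor.Code24
open scoped Pointwise

variable {α β : Type*} [Fintype α] [DecidableEq α] [Fintype β] [DecidableEq β]

/-- An identification of the points of `B` and one more with the points of the code. -/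
structure Frame23 (B : Set (Finset α)) (p : GolayPt) where
  /-- The identification. -/
  φ : Option α ≃ GolayPt
  base : φ none = p
  mem_iff : ∀ X : Finset α, X ∈ B ↔ (insertNone X).image φ ∈ octads
  aut : ∀ g ∈ setSystemAut B, φ.permCongr (Equiv.optionCongr g) ∈ M24

theorem image_insertNone_congr (g : Equiv.Perm α) (X : Finset α) :
    (insertNone X).image (Equiv.optionCongr g) = insertNone (X.image g) := by
  ext o
  cases o with
  | none => simp
  | some x => simp [mem_image]

theorem ind_image_symm {γ : Type*} [DecidableEq γ] (e : Fin 24 ≃ γ) (X : Finset γ) (i : Fin 24) :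
    ind (X.image e.symm) i = if e i ∈ X then 1 else 0 := by
  simp [ind, mem_image, Equiv.symm_apply_eq]

theorem exists_frame23 (hα : Fintype.card α = 23) {B : Set (Finset α)} (hB : Cfsg.IsSteinerSystem 4 7 B) :
    ∀ p : GolayPt, Nonempty (Frame23 B p) := by
  classical
  intro p
  set Bf := B.toFinset
  have hm : ∀ b, b ∈ Bf ↔ b ∈ B := fun b => Set.mem_toFinset
  let e : Option α ≃ Fin 24 := Fintype.equivFinOfCardEq (by rw [Fintype.card_option, hα])
  obtain ⟨hG, hback⟩ := good_extCode hα (B := Bf) (fun b hb => hB.1 b ((hm b).1 hb))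
    (fun F hF => by simpa only [hm] using hB.2 F hF) e
  obtain ⟨e1, he1⟩ := exists_golay_equiv hG
  obtain ⟨g0, hg0⟩ : ∃ g : M24, g • e1 (e none) = p := by
    haveI : MulAction.IsPretransitive M24 GolayPt := by
      haveI := Cfsg.Agent.S0366.result
      exact MulAction.is_one_pretransitive_iff.1 (MulAction.isMultiplyPretransitive_of_le' (m := 1) (n := 5) (by norm_num) (by simp <;> norm_num))
    exact MulAction.exists_smul_eq M24 _ _
  let φ : Option α ≃ GolayPt := (e.trans e1).trans g0.1
  have hM : ∀ g : Equiv.Perm GolayPt, g ∈ M24 → ∀ X : Finset GolayPt, X ∈ octads → X.image g ∈ octads := by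
    intro g hg X hX
    rw [Cfsg.Agent.S0369.result, CfsgLib.Spor.mem_setSystemAut] at hg
    exact hg ▸ Set.mem_image_of_mem (fun b : Finset GolayPt => b.image g) hX
  have hoct : ∀ X : Finset GolayPt, X ∈ octads ↔ ind (X.image e1.symm) ∈ extCode e Bf ∧ X.card = 8 := by
    intro X
    constructor
    · rintro ⟨⟨w, hw, rfl⟩, h8⟩
      refine ⟨?_, h8⟩
      convert (he1 w).1 hw using 1
      funext i
      rw [ind_image_symm]
      rcases zmod_two (w (e1 i)) with h | h <;> simp [support₂, h]
    · rintro ⟨hX, h8⟩
      refine ⟨⟨fun q => ind (X.image e1.symm) (e1.symm q), (he1 _).2 (by simpa using hX), ?_⟩, h8⟩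
      ext q
      simp [support₂, ind]
  refine ⟨⟨φ, hg0, fun X => ?_, fun g hg => ?_⟩⟩
  · have key : X ∈ B ↔ (insertNone X).image (e.trans e1) ∈ octads := by
      rw [hoct, image_image, show (e1.symm ∘ (e.trans e1) : Option α → Fin 24) = e from funext fun o => by simp,
        card_image_of_injective _ (e.trans e1).injective, card_insertNone]
      constructor
      · intro hX
        exact ⟨Submodule.subset_span ⟨⟨X, (hm X).2 hX⟩, rfl⟩, by rw [hB.1 X hX]⟩
      · rintro ⟨h1, h2⟩
        exact (hm X).1 (hback X (by omega) h1)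
    rw [key]
    have e2 : (insertNone X).image φ = ((insertNone X).image (e.trans e1)).image g0.1 := by
      rw [image_image]; rfl
    rw [e2]
    refine ⟨hM g0.1 g0.2 _, fun h => ?_⟩
    have := hM _ (inv_mem g0.2) _ h
    rwa [image_image, show (⇑(g0.1⁻¹) ∘ ⇑g0.1) = id from funext fun q => g0.1.symm_apply_apply q, image_id] at this
  · have hperm : (e.trans e1).permCongr (Equiv.optionCongr g) ∈ M24 := by
      rw [Cfsg.Agent.S0369.result, CfsgLib.Spor.mem_setSystemAut]
      rw [CfsgLib.Spor.mem_setSystemAut] at hg
      have hgn : (Equiv.optionCongr g).symm none = none := (Equiv.symm_apply_eq _).2 rfl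
      have hgs : ∀ x, (Equiv.optionCongr g).symm (some x) = some (g.symm x) := fun x =>
        (Equiv.symm_apply_eq _).2 (by simp)
      set π : Equiv.Perm (Fin 24) := e.permCongr (Equiv.optionCongr g) with hπ
      have hgen : ∀ w ∈ extCode e Bf, (fun i => w (π.symm i)) ∈ extCode e Bf := by
        intro w hw
        refine Submodule.span_induction (p := fun w _ => (fun i => w (π.symm i)) ∈ extCode e Bf) ?_
          (extCode e Bf).zero_mem (fun x y _ _ hx hy => (extCode e Bf).add_mem hx hy)
          (fun a x _ hx => (extCode e Bf).smul_mem a hx) hw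
        rintro _ ⟨⟨b, hb⟩, rfl⟩
        have hb' : b.image g ∈ Bf := (hm _).2 (hg ▸ Set.mem_image_of_mem (fun b : Finset α => b.image g) ((hm b).1 hb))
        rw [show (fun i => ind (ext e b) (π.symm i)) = ind (ext e (b.image g)) from funext fun i => ?_]
        · exact Submodule.subset_span ⟨⟨_, hb'⟩, rfl⟩
        obtain ⟨o, rfl⟩ := e.surjective i
        cases o with
        | none => simp [ind, π, mem_ext_none, Equiv.permCongr_def, hgn, hgs]
        | some x =>
          have : (g.symm x ∈ b) ↔ ∃ a ∈ b, g a = x :=
            ⟨fun h => ⟨_, h, g.apply_symm_apply x⟩, by rintro ⟨a, ha, rfl⟩; simpa using ha⟩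
          simp [ind, π, mem_ext_some, Equiv.permCongr_def, hgn, hgs, this]
      have hsub : ∀ X ∈ octads, X.image ((e.trans e1).permCongr (Equiv.optionCongr g)) ∈ octads := by
        intro X hX
        obtain ⟨h1, h8⟩ := (hoct X).1 hX
        refine (hoct _).2 ⟨?_, by rw [card_image_of_injective _ (Equiv.injective _), h8]⟩
        convert hgen _ h1 using 1
        funext i
        rw [ind_image_symm, ind_image_symm]
        refine if_congr ?_ rfl rfl
        rw [mem_image]
        constructor
        · rintro ⟨a, ha, h⟩
          convert ha using 1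
          obtain ⟨o, rfl⟩ := (e.trans e1).surjective a
          simp [π, Equiv.permCongr_def] at h ⊢
          rw [← h]; simp [hgn, hgs]
          cases o <;> simp [hgn, hgs]
        · intro ha
          exact ⟨_, ha, by simp [π, Equiv.permCongr_def, hgn, hgs]⟩
      refine Set.eq_of_subset_of_ncard_le (by rintro _ ⟨X, hX, rfl⟩; exact hsub X hX) ?_ (Set.toFinite _)
      rw [Set.ncard_image_of_injective _ (image_injective (Equiv.injective _))]
    have e3 : φ.permCongr (Equiv.optionCongr g) = g0.1 * (e.trans e1).permCongr (Equiv.optionCongr g) * g0.1⁻¹ :=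
      Equiv.ext fun q => by simp [φ, Equiv.permCongr_def, Equiv.Perm.mul_apply]
    rw [e3]
    exact mul_mem (mul_mem g0.2 hperm) (inv_mem g0.2)

theorem unique23 (hα : Fintype.card α = 23) (hβ : Fintype.card β = 23) {B : Set (Finset α)} {B' : Set (Finset β)}
    (hB : Cfsg.IsSteinerSystem 4 7 B) (hB' : Cfsg.IsSteinerSystem 4 7 B') : Cfsg.SetSystemIso B B' := by
  classical
  obtain ⟨F⟩ := exists_frame23 hα hB none
  obtain ⟨F'⟩ := exists_frame23 hβ hB' none
  set ψ : Option α ≃ Option β := F.φ.trans F'.φ.symm with hψ
  have h0 : ψ none = none := by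
    rw [hψ, Equiv.trans_apply, F.base]
    exact (Equiv.symm_apply_eq _).2 F'.base.symm
  have hsome : ∀ x, some (ψ.removeNone x) = ψ (some x) := fun x => Equiv.removeNone_some ψ (by
    cases h : ψ (some x) with
    | none => exact absurd (ψ.injective (h.trans h0.symm)) (by simp)
    | some y => exact ⟨y, rfl⟩)
  have him : ∀ X : Finset α, (insertNone (X.image ψ.removeNone)).image F'.φ = (insertNone X).image F.φ := by
    intro X
    have e2 : insertNone (X.image ψ.removeNone) = (insertNone X).image ψ := by
      ext o
      cases o with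
      | none => simp only [none_mem_insertNone, mem_image, true_iff]; exact ⟨none, none_mem_insertNone, h0⟩
      | some y =>
        simp only [some_mem_insertNone, mem_image]
        constructor
        · rintro ⟨x, hx, rfl⟩; exact ⟨some x, some_mem_insertNone.2 hx, (hsome x).symm⟩
        · rintro ⟨a, ha, h⟩
          cases a with
          | none => rw [h0] at h; simp at h
          | some x => exact ⟨x, some_mem_insertNone.1 ha, Option.some_injective _ ((hsome x).trans h)⟩
    rw [e2, image_image]
    refine image_congr fun o _ => ?_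
    simp [hψ]
  refine ⟨ψ.removeNone, Set.ext fun Y => ⟨?_, fun hY => ?_⟩⟩
  · rintro ⟨X, hX, rfl⟩
    rw [F'.mem_iff, him]
    exact (F.mem_iff X).1 hX
  · refine ⟨Y.image ψ.removeNone.symm, ?_, ?_⟩
    · rw [F.mem_iff, ← him, image_image, Equiv.self_comp_symm, image_id]
      exact (F'.mem_iff Y).1 hY
    · show (Y.image ψ.removeNone.symm).image ψ.removeNone = Y
      rw [image_image, Equiv.self_comp_symm, image_id]

/-- The automorphism group is the stabiliser of a point in `M24`. -/
theorem aut23 (hα : Fintype.card α = 23) {B : Set (Finset α)} (hB : Cfsg.IsSteinerSystem 4 7 B) (p : GolayPt) :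
    Nonempty (↥(setSystemAut B) ≃* ↥(MulAction.stabilizer M24 p)) ∧
      MulAction.IsMultiplyPretransitive (setSystemAut B) α 4 := by
  classical
  obtain ⟨F⟩ := exists_frame23 hα hB p
  have hsome : ∀ (h : Equiv.Perm GolayPt), h p = p → ∀ x,
      some ((F.φ.symm.permCongr h).removeNone x) = F.φ.symm.permCongr h (some x) := fun h hp x =>
    Equiv.removeNone_some _ (by
      cases hh : F.φ.symm.permCongr h (some x) with
      | none =>
        exfalso
        have : F.φ.symm.permCongr h (some x) = F.φ.symm.permCongr h none := by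
          rw [hh]
          show none = F.φ.symm (h (F.φ none))
          rw [F.base, hp]
          exact ((Equiv.symm_apply_eq _).2 F.base.symm).symm
        simpa using (F.φ.symm.permCongr h).injective this
      | some y => exact ⟨y, rfl⟩)
  have hback : ∀ (h : Equiv.Perm GolayPt), h ∈ M24 → h p = p → (F.φ.symm.permCongr h).removeNone ∈ setSystemAut B := by
    intro h hh hp
    rw [CfsgLib.Spor.mem_setSystemAut]
    refine Set.eq_of_subset_of_ncard_le ?_ (by rw [Set.ncard_image_of_injective _ (image_injective (Equiv.injective _))]) (Set.toFinite _)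
    rintro _ ⟨X, hX, rfl⟩
    rw [F.mem_iff]
    have hh' := hh
    rw [Cfsg.Agent.S0369.result, CfsgLib.Spor.mem_setSystemAut] at hh'
    have himg : ((insertNone X).image F.φ).image h ∈ octads :=
      hh' ▸ Set.mem_image_of_mem (fun b : Finset GolayPt => b.image h) ((F.mem_iff X).1 hX)
    convert himg using 1
    rw [image_image]
    ext q
    simp only [mem_image]
    constructor
    · rintro ⟨o, ho, rfl⟩
      cases o with
      | none => exact ⟨none, none_mem_insertNone, by simp [F.base, hp]⟩
      | some y =>
        obtain ⟨x, hx, rfl⟩ := mem_image.1 (some_mem_insertNone.1 ho)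
        exact ⟨some x, some_mem_insertNone.2 hx, by rw [hsome h hp]; simp [Equiv.permCongr_def]⟩
    · rintro ⟨o, ho, rfl⟩
      cases o with
      | none => exact ⟨none, none_mem_insertNone, by simp [F.base, hp]⟩
      | some x =>
        exact ⟨some ((F.φ.symm.permCongr h).removeNone x), some_mem_insertNone.2 (mem_image_of_mem _ (some_mem_insertNone.1 ho)),
          by rw [hsome h hp]; simp [Equiv.permCongr_def]⟩
  refine ⟨⟨{
    toFun := fun g => ⟨⟨F.φ.permCongr (Equiv.optionCongr g.1), F.aut g.1 g.2⟩, by
      rw [MulAction.mem_stabilizer_iff]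
      show F.φ (Equiv.optionCongr g.1 (F.φ.symm p)) = p
      rw [(Equiv.symm_apply_eq _).2 F.base.symm]
      exact F.base⟩
    invFun := fun h => ⟨(F.φ.symm.permCongr h.1.1).removeNone, hback _ h.1.2 h.2⟩
    left_inv := fun g => Subtype.ext (Equiv.ext fun x => by
      refine Option.some_injective _ ?_
      rw [hsome _ (show F.φ (Equiv.optionCongr g.1 (F.φ.symm p)) = p by rw [(Equiv.symm_apply_eq _).2 F.base.symm]; exact F.base)]
      simp [Equiv.permCongr_def])
    right_inv := fun h => Subtype.ext (Subtype.ext (Equiv.ext fun q => by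
      obtain ⟨o, rfl⟩ := F.φ.surjective q
      have hp : h.1.1 p = p := h.2
      cases o with
      | none => simp [Equiv.permCongr_def, F.base, hp]
      | some x =>
        show F.φ (Equiv.optionCongr _ (F.φ.symm (F.φ (some x)))) = _
        rw [Equiv.symm_apply_apply]
        show F.φ (some ((F.φ.symm.permCongr h.1.1).removeNone x)) = _
        rw [hsome _ hp]
        simp [Equiv.permCongr_def]))
    map_mul' := fun g g' => Subtype.ext (Subtype.ext (Equiv.ext fun q => by
      obtain ⟨o, rfl⟩ := F.φ.surjective q
      cases o <;> simp [Equiv.permCongr_def, Equiv.Perm.mul_apply])) }⟩, ?_⟩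
  rw [MulAction.isMultiplyPretransitive_iff]
  intro x y
  haveI := Cfsg.Agent.S0366.result
  have lift : ∀ z : Fin 4 ↪ α, ∃ w : Fin 5 ↪ GolayPt, w 0 = p ∧ ∀ i, w i.succ = F.φ (some (z i)) := fun z =>
    ⟨⟨Fin.cons p fun i => F.φ (some (z i)), Fin.cons_injective_iff.2 ⟨by
      rintro ⟨i, hi⟩
      simpa using F.φ.injective ((hi : F.φ (some (z i)) = p).trans F.base.symm), fun i j h => z.injective (by simpa using h)⟩⟩, rfl, fun i => rfl⟩
  obtain ⟨wx, hx0, hxs⟩ := lift x
  obtain ⟨wy, hy0, hys⟩ := lift y
  obtain ⟨h, hh⟩ := MulAction.exists_smul_eq M24 wx wy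
  have hval : ∀ i, h.1 (wx i) = wy i := fun i => congrFun (congrArg DFunLike.coe hh) i
  have hp : h.1 p = p := by have := hval 0; rwa [hx0, hy0] at this
  refine ⟨⟨_, hback h.1 h.2 hp⟩, Function.Embedding.ext fun i => Option.some_injective _ ?_⟩
  show some ((F.φ.symm.permCongr h.1).removeNone (x i)) = some (y i)
  rw [hsome _ hp, Equiv.permCongr_def]
  have := hval i.succ
  rw [hxs, hys] at this
  simp [this]

end CfsgLib.Spor.Golay
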