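/-
Coset leaders of the code of length 24.
-/
import Cfsg.Agent.Lib.Spor.SelfOrthCode
import Cfsg.Agent.S0358
import Cfsg.Agent.S0359
import Cfsg.Agent.S0362

set_option autoImplicit false

namespace CfsgLib.Spor.Golay

open Cfsg Finset CfsgLib.Spor.Code24

theorem coset_leaders (w : GolayPt → ZMod 2) :
    ({v : GolayPt → ZMod 2 | hammingNorm v ≤ 4 ∧ w - v ∈ golayCode}.ncard = 1 ∧
      ∃ v : GolayPt → ZMod 2, hammingNorm v ≤ 3 ∧ w - v ∈ golayCode) ∨
    ({v : GolayPt → ZMod 2 | hammingNorm v ≤ 4 ∧ w - v ∈ golayCode}.ncard = 6 ∧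
      ∀ v : GolayPt → ZMod 2, w - v ∈ golayCode → hammingNorm v ≤ 4 → hammingNorm v = 4) := by
  classical
  let e0 : Fin 24 ≃ GolayPt := (Fintype.equivFinOfCardEq (by simp : Fintype.card GolayPt = 24)).symm
  let L : (GolayPt → ZMod 2) ≃ₗ[ZMod 2] Word := LinearEquiv.funCongrLeft (ZMod 2) (ZMod 2) e0
  have hL : ∀ (v : GolayPt → ZMod 2) i, L v i = v (e0 i) := fun v i => rfl
  have hnorm : ∀ v, hammingNorm (L v) = hammingNorm v := by
    intro v
    refine card_bij (fun i _ => e0 i) (fun i hi => ?_) (fun i _ j _ h => e0.injective h) fun p hp => ?_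
    · simpa [hL] using hi
    · exact ⟨e0.symm p, by simpa [hL] using hp, e0.apply_symm_apply p⟩
  set C := golayCode.map L.toLinearMap with hC'
  have hG : Good C := by
    refine ⟨?_, ?_, ?_⟩
    · rw [hC', LinearEquiv.finrank_map_eq, Cfsg.Agent.S0358.result]
    · rintro _ ⟨v, hv, rfl⟩ _ ⟨u, hu, rfl⟩
      exact (Equiv.sum_comp e0 fun p => v p * u p).trans (Cfsg.Agent.S0362.result v u hv hu)
    · rintro _ ⟨v, hv, rfl⟩ hne
      show 8 ≤ hammingNorm (L v)
      rw [hnorm]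
      have hv0 : hammingNorm v ≠ 0 := fun h => hne (by rw [hammingNorm_eq_zero.1 h, map_zero])
      rcases Cfsg.Agent.S0359.result v hv with h | h | h | h | h <;> omega
  let φ : Finset (Fin 24) → (GolayPt → ZMod 2) := fun G => L.symm (ind G)
  have hφn : ∀ G, hammingNorm (φ G) = G.card := fun G => by rw [← hnorm, L.apply_symm_apply, norm_ind]
  have hφC : ∀ G, w - φ G ∈ golayCode ↔ ind G + L w ∈ C := by
    intro G
    rw [add_comm, ← sub_eq_add', show L w - ind G = L (w - φ G) by rw [map_sub, L.apply_symm_apply]]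
    exact ⟨fun h => ⟨_, h, rfl⟩, fun ⟨x, hx, e⟩ => L.injective e ▸ hx⟩
  have hφs : ∀ v, ∃ G, φ G = v := fun v => ⟨support₂ (L v), by simp [φ, ind_supp]⟩
  rcases hG.coset (L w) with ⟨F, hF, hFC, huniq⟩ | ⟨hfour, hsix⟩
  · refine Or.inl ⟨Set.ncard_eq_one.2 ⟨φ F, Set.ext fun v => ⟨fun ⟨h1, h2⟩ => ?_, ?_⟩⟩,
      φ F, (hφn F).trans_le hF, (hφC F).2 hFC⟩
    · obtain ⟨G, rfl⟩ := hφs v
      rw [Set.mem_singleton_iff, huniq G ((hφn G).ge.trans h1) ((hφC G).1 h2)]
    · rintro rfl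
      exact ⟨(hφn F).trans_le (by omega), (hφC F).2 hFC⟩
  · refine Or.inr ⟨?_, fun v h1 h2 => ?_⟩
    · rw [show {v : GolayPt → ZMod 2 | hammingNorm v ≤ 4 ∧ w - v ∈ golayCode} =
          φ '' ↑((powersetCard 4 univ).filter fun G => ind G + L w ∈ C) from ?_,
        Set.ncard_image_of_injective, Set.ncard_coe_finset, hsix]
      · intro F G h
        have := congrArg (fun v => support₂ (L v)) h
        simpa [φ, supp_ind] using this
      ext v
      constructor
      · rintro ⟨h1, h2⟩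
        obtain ⟨G, rfl⟩ := hφs v
        exact ⟨G, mem_filter.2 ⟨mem_powersetCard.2 ⟨subset_univ _, hfour G ((hφn G).ge.trans h1) ((hφC G).1 h2)⟩,
          (hφC G).1 h2⟩, rfl⟩
      · rintro ⟨G, hG, rfl⟩
        obtain ⟨h1, h2⟩ := mem_filter.1 hG
        exact ⟨((hφn G).trans (mem_powersetCard.1 h1).2).le, (hφC G).2 h2⟩
    · obtain ⟨G, rfl⟩ := hφs v
      rw [hφn] at h2 ⊢
      exact hfour G h2 ((hφC G).1 h1)

end CfsgLib.Spor.Golay
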