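/-
The punctured code of length 23.
-/
import Cfsg.Agent.Lib.Spor.DesignSearch
import Mathlib.InformationTheory.Hamming

set_option autoImplicit false
set_option maxRecDepth 8000
set_option linter.constructorNameAsVariable false

namespace CfsgLib.Spor.Punct

open Cfsg Finset CfsgLib.Spor

/-- Deleting the extra point. -/
def res (w : GolayPt → ZMod 2) : ZMod 23 → ZMod 2 := fun x => w (some x)

/-- The punctured code. -/
def P : Set (ZMod 23 → ZMod 2) := {u | ∃ w ∈ golayCode, ∀ x : ZMod 23, u x = w (some x)}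

theorem norm_res (m : ℕ) : hammingNorm (res (CfsgLib.Spor.word m)) = pop 23 m := by
  rw [← Search.card_mset]
  refine Finset.card_bij (fun (x : ZMod 23) _ => (x : Fin 23)) (fun x hx => Search.mem_mset.2 ?_)
    (fun a _ b _ h => h) fun x hx => ⟨(x : ZMod 23), mem_filter.2 ⟨mem_univ (x : ZMod 23), ?_⟩, rfl⟩
  · have h : (if m.testBit x.val then (1 : ZMod 2) else 0) ≠ 0 := (mem_filter.1 hx).2
    by_contra hc
    exact h (if_neg hc)
  · have h := Search.mem_mset.1 hx
    show (if m.testBit x.1 then (1 : ZMod 2) else 0) ≠ 0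
    rw [if_pos h]
    decide

theorem light : ∀ m ∈ codeList, m = 0 ∨ 7 ≤ pop 23 m := by
  have key : (codeList.all fun m => m == 0 || decide (7 ≤ pop 23 m)) = true := by decide +kernel
  intro m hm
  simpa using List.all_eq_true.1 key m hm

theorem exists_mask {u : ZMod 23 → ZMod 2} (hu : u ∈ P) : ∃ m ∈ codeList, u = res (CfsgLib.Spor.word m) := by
  obtain ⟨w, hw, h⟩ := hu
  obtain ⟨m, hm, e⟩ := exists_codeList hw
  exact ⟨m, hm, funext fun x => by rw [h x, res, e]⟩

theorem min_seven {u : ZMod 23 → ZMod 2} (hu : u ∈ P) (h0 : u ≠ 0) : 7 ≤ hammingNorm u := by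
  obtain ⟨m, hm, rfl⟩ := exists_mask hu
  rw [norm_res]
  refine (light m hm).resolve_left fun e => h0 ?_
  rw [e, word_zero]; rfl

theorem sub_mem {u v : ZMod 23 → ZMod 2} (hu : u ∈ P) (hv : v ∈ P) : u - v ∈ P := by
  obtain ⟨w, hw, h⟩ := hu
  obtain ⟨w', hw', h'⟩ := hv
  exact ⟨w - w', golayCode.sub_mem hw hw', fun x => by simp [h x, h' x]⟩

theorem injOn_res : Set.InjOn (fun m => res (CfsgLib.Spor.word m)) ↑codeList.toFinset := by
  intro a ha b hb h
  simp only [List.coe_toFinset, Set.mem_setOf_eq] at ha hb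
  have h0 : res (CfsgLib.Spor.word (a ^^^ b)) = 0 := funext fun x => by
    have := congrFun h x
    simp only [res, word_xor, Pi.add_apply] at this ⊢
    rw [this, Pi.zero_apply]
    generalize CfsgLib.Spor.word b (some x) = z
    revert z; decide
  obtain ⟨m, hm, e⟩ := exists_codeList (by rw [word_xor]; exact add_mem (codeList_spec ha).2 (codeList_spec hb).2 :
    CfsgLib.Spor.word (a ^^^ b) ∈ golayCode)
  rcases light m hm with rfl | h7
  · refine eq_of_pts_eq (codeList_spec ha).1 (codeList_spec hb).1 ?_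
    rw [← support₂_word, ← support₂_word]
    refine congrArg support₂ ?_
    rw [word_zero, word_xor] at e
    funext p
    have := congrFun e p
    simp only [Pi.zero_apply, Pi.add_apply] at this
    generalize CfsgLib.Spor.word a p = y, CfsgLib.Spor.word b p = z at this ⊢
    revert y z; decide
  · rw [← norm_res, e, h0] at h7
    simp at h7

theorem P_eq : P = (fun m => res (CfsgLib.Spor.word m)) '' ↑codeList.toFinset :=
  Set.ext fun _ => ⟨fun hu => by
    obtain ⟨m, hm, rfl⟩ := exists_mask hu
    exact ⟨m, List.mem_toFinset.2 hm, rfl⟩,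
  fun ⟨m, hm, e⟩ => ⟨_, (codeList_spec (List.mem_toFinset.1 hm)).2, fun x => e ▸ rfl⟩⟩

theorem ncard_P : P.ncard = 4096 := by
  rw [P_eq, injOn_res.ncard_image, Set.ncard_coe_finset, List.toFinset_card_of_nodup codeList_nodup]
  decide +kernel

theorem ncard_weight (k : ℕ) :
    {u | u ∈ P ∧ hammingNorm u = k}.ncard = (codeList.filter fun m => pop 23 m == k).length := by
  rw [show {u | u ∈ P ∧ hammingNorm u = k} =
      (fun m => res (CfsgLib.Spor.word m)) '' ↑((codeList.filter fun m => pop 23 m == k).toFinset) from ?_,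
    Set.InjOn.ncard_image, Set.ncard_coe_finset, List.toFinset_card_of_nodup (codeList_nodup.filter _)]
  · refine injOn_res.mono fun a ha => ?_
    simp only [List.coe_toFinset, Set.mem_setOf_eq, List.mem_filter] at ha ⊢
    exact ha.1
  ext u
  simp only [Set.mem_setOf_eq, Set.mem_image, List.coe_toFinset, List.mem_filter, beq_iff_eq]
  constructor
  · rintro ⟨hu, hk⟩
    obtain ⟨m, hm, rfl⟩ := exists_mask hu
    exact ⟨m, ⟨hm, (norm_res m).symm.trans hk⟩, rfl⟩
  · rintro ⟨m, ⟨hm, hk⟩, rfl⟩
    exact ⟨⟨_, (codeList_spec hm).2, fun x => rfl⟩, (norm_res m).trans hk⟩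

/-- The words of weight at most three. -/
def ball : Finset (ZMod 23 → ZMod 2) :=
  (powersetCard 0 univ ∪ powersetCard 1 univ ∪ powersetCard 2 univ ∪ powersetCard 3 univ).image
    fun F x => if x ∈ F then 1 else 0

theorem mem_ball {e : ZMod 23 → ZMod 2} : e ∈ ball ↔ hammingNorm e ≤ 3 := by
  simp only [ball, mem_image, mem_union, mem_powersetCard, subset_univ, true_and]
  constructor
  · rintro ⟨F, hF, rfl⟩
    have : hammingNorm (fun x => if x ∈ F then (1 : ZMod 2) else 0) = F.card :=
      congrArg card (by ext x; simp)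
    omega
  · intro h
    refine ⟨univ.filter fun x => e x ≠ 0, ?_, funext fun x => ?_⟩
    · have : (univ.filter fun x => e x ≠ 0).card = hammingNorm e := rfl
      omega
    · simp only [mem_filter, mem_univ, true_and]
      generalize e x = z
      revert z; decide

theorem card_ball : ball.card = 2048 := by
  have d : ∀ i j : ℕ, i ≠ j → Disjoint (powersetCard i (univ : Finset (ZMod 23))) (powersetCard j univ) :=
    fun i j h => disjoint_left.2 fun F hF hF' =>
      h ((mem_powersetCard.1 hF).2.symm.trans (mem_powersetCard.1 hF').2)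
  rw [ball, card_image_of_injective]
  · rw [card_union_of_disjoint, card_union_of_disjoint, card_union_of_disjoint]
    · simp only [card_powersetCard, card_univ, ZMod.card]; decide
    · exact d 0 1 (by omega)
    · exact disjoint_union_left.2 ⟨d 0 2 (by omega), d 1 2 (by omega)⟩
    · exact disjoint_union_left.2 ⟨disjoint_union_left.2 ⟨d 0 3 (by omega), d 1 3 (by omega)⟩, d 2 3 (by omega)⟩
  · intro F G h
    ext x
    have := congrFun h x
    by_cases hF : x ∈ F <;> by_cases hG : x ∈ G <;> simp_all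

theorem dist_eq (x y : ZMod 23 → ZMod 2) : hammingDist x y = hammingNorm (x - y) := by
  simp [hammingDist, hammingNorm, sub_ne_zero]

theorem perfect (u : ZMod 23 → ZMod 2) : ∃! c, c ∈ P ∧ hammingDist u c ≤ 3 := by
  classical
  have huniq : ∀ c₁ ∈ P, ∀ c₂ ∈ P, hammingDist u c₁ ≤ 3 → hammingDist u c₂ ≤ 3 → c₁ = c₂ := by
    intro c₁ h1 c₂ h2 d1 d2
    by_contra hne
    have h7 := min_seven (sub_mem h1 h2) (sub_ne_zero.2 hne)
    rw [← dist_eq] at h7
    have := hammingDist_triangle c₁ u c₂
    rw [hammingDist_comm c₁ u] at this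
    omega
  have hd : ∀ c e : ZMod 23 → ZMod 2, hammingDist (c + e) c = hammingNorm e := fun c e => by
    rw [dist_eq]; simp
  let Pf : Finset (ZMod 23 → ZMod 2) := codeList.toFinset.image fun m => res (CfsgLib.Spor.word m)
  have hPf : ∀ c, c ∈ Pf ↔ c ∈ P := fun c => by rw [P_eq]; simp [Pf]
  have hinj : Set.InjOn (fun q : (ZMod 23 → ZMod 2) × (ZMod 23 → ZMod 2) => q.1 + q.2) ↑(Pf ×ˢ ball) := by
    rintro ⟨c, e⟩ h ⟨c', e'⟩ h' (he : c + e = c' + e')
    rw [coe_product, Set.mem_prod, mem_coe, mem_coe, hPf, mem_ball] at h h'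
    have hc : c = c' := by
      by_contra hne
      have h7 := min_seven (sub_mem h.1 h'.1) (sub_ne_zero.2 hne)
      rw [← dist_eq] at h7
      have := hammingDist_triangle c (c + e) c'
      have a1 : hammingDist c (c + e) = hammingNorm e := (hammingDist_comm _ _).trans (hd c e)
      have a2 : hammingDist (c + e) c' = hammingNorm e' := by rw [he, hd c' e']
      change 7 ≤ hammingDist c c' at h7
      change c ∈ P ∧ hammingNorm e ≤ 3 at h
      change c' ∈ P ∧ hammingNorm e' ≤ 3 at h'
      omega
    subst hc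
    exact Prod.ext rfl (add_left_cancel he)
  have hall : (Pf ×ˢ ball).image (fun q => q.1 + q.2) = univ := eq_univ_of_card _ (by
    rw [card_image_of_injOn hinj, card_product, card_ball, card_image_of_injOn injOn_res,
      List.toFinset_card_of_nodup codeList_nodup, Fintype.card_fun, ZMod.card, ZMod.card]
    decide +kernel)
  obtain ⟨⟨c, e⟩, hq, he⟩ := mem_image.1 (hall ▸ mem_univ u)
  rw [mem_product, hPf, mem_ball] at hq
  have hce : hammingDist u c ≤ 3 := by
    rw [← he]; exact (hd c e).trans_le hq.2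
  exact ⟨c, ⟨hq.1, hce⟩, fun c' hc' => huniq c' hc'.1 c hq.1 hc'.2 hce⟩

end CfsgLib.Spor.Punct
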